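/-
Integral realisations of irreducible characters over the local ring at a maximal ideal above a prime.

* `memR_or_memR_inv` : the local ring is a valuation ring inside the algebraic numbers
* `exists_dvd_min` : a finite family of algebraic integers has a member dividing all others locally
* `exists_realisation` : a multiple of an irreducible character is afforded by matrices with local integer
  entries on which class sums act as scalars
* `sum_split_involutive` : a sum over a set stable under an involutive map
* `trace_mul_eq_zero` : an involution commuting with an idempotent on which a unit is a "norm" has trace zero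
-/
import Cfsg.Agent.Lib.Blocks.Trace
import Cfsg.Agent.Lib.Blocks.CentralFun

set_option autoImplicit false

open scoped ComplexConjugate
open Polynomial

namespace Cfsg.Agent.BrauerSuzuki

open Cfsg Cfsg.Agent.Blocks

variable {p : ℕ} {M : Ideal AlgInt}

theorem memR_or_memR_inv (hM : IsPModular p M) {x : ℂ} (hx : IsAlgebraic ℤ x) :
    MemLocalRing M x ∨ MemLocalRing M x⁻¹ := by
  have key : ∀ n : ℕ, ∀ P : AlgInt[X], P.natDegree ≤ n → aeval x P = 0 → (∃ i, P.coeff i ∉ M) →
      MemLocalRing M x ∨ MemLocalRing M x⁻¹ := by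
    intro n
    induction n with
    | zero =>
      rintro P hd h0 ⟨i, hi⟩
      rw [eq_C_of_natDegree_le_zero hd, aeval_C] at h0
      have hc : P.coeff 0 = 0 := Subtype.ext h0
      rw [eq_C_of_natDegree_le_zero hd, hc] at hi
      exact absurd (by simp : ((C 0 : AlgInt[X])).coeff i ∈ M) hi
    | succ n ih =>
      rintro P hd h0 ⟨i, hi⟩
      set c := P.coeff (n + 1) with hc
      by_cases hc0 : c = 0
      · refine ih P (natDegree_le_iff_coeff_eq_zero.2 fun N hN => ?_) h0 ⟨i, hi⟩
        rcases Nat.eq_or_lt_of_le (show n + 1 ≤ N from hN) with rfl | h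
        · exact hc0
        · exact coeff_eq_zero_of_natDegree_lt (hd.trans_lt h)
      have hdeg : P.natDegree = n + 1 := le_antisymm hd (le_natDegree_of_ne_zero hc0)
      have hint : IsIntegral ℤ (c • x) := by
        have h1 := isIntegral_leadingCoeff_smul P x h0
        rw [leadingCoeff, hdeg] at h1
        exact isIntegral_trans (A := AlgInt) _ h1
      set u : AlgInt := ⟨c • x, hint⟩ with hu
      have hux : (u : ℂ) = (c : ℂ) * x := rfl
      by_cases hcM : c ∈ M
      swap
      · exact Or.inl ⟨u, c, hcM, by rw [hux, mul_div_cancel_left₀ _ (pmod_ne_zero hcM)]⟩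
      by_cases huM : u ∈ M
      swap
      · refine Or.inr ⟨c, u, huM, ?_⟩
        have h1 : (c : ℂ) ≠ 0 := fun h => hc0 (Subtype.ext h)
        rw [hux, div_mul_cancel_left₀ h1]
      set P' := P.erase (n + 1) + C u * X ^ n with hP'
      have hcoe : ∀ a : AlgInt, algebraMap AlgInt ℂ a = (a : ℂ) := fun a => rfl
      have haev : aeval x P' = 0 := by
        have h1 : aeval x P = aeval x (monomial (n + 1) c) + aeval x (P.erase (n + 1)) := by
          rw [← map_add, hc, monomial_add_erase]
        rw [h0, aeval_monomial, hcoe] at h1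
        rw [hP', map_add, map_mul, aeval_C, map_pow, aeval_X, hcoe, hux]
        linear_combination -h1
      have hcoeff : ∀ j, P'.coeff j =
          (if j = n + 1 then 0 else P.coeff j) + (if j = n then u else 0) := fun j => by
        rw [hP', coeff_add, coeff_erase, coeff_C_mul_X_pow]
      refine ih P' (natDegree_le_iff_coeff_eq_zero.2 fun N hN => ?_) haev ⟨i, ?_⟩
      · rw [hcoeff, if_neg (show N ≠ n by omega), add_zero]
        split_ifs with h
        · rfl
        · exact coeff_eq_zero_of_natDegree_lt (by omega)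
      · have hine : i ≠ n + 1 := fun h => hi (h ▸ hcM)
        rw [hcoeff, if_neg hine]
        split_ifs with h
        · exact fun hmem => hi ((M.add_mem_iff_left huM).1 hmem)
        · simpa using hi
  obtain ⟨Q, hQ0, hQx⟩ := hx
  have h1 : aeval x Q.primPart = 0 := aeval_primPart_eq_zero hQ0 hQx
  refine key _ (Q.primPart.map (algebraMap ℤ AlgInt)) le_rfl
    ((aeval_map_algebraMap AlgInt x _).trans h1) ?_
  by_contra hall
  push Not at hall
  have h2 : C (p : ℤ) ∣ Q.primPart := by
    rw [C_dvd_iff_dvd_coeff]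
    intro i
    have h3 := (memI_coe hM).2 (hall i)
    rw [coeff_map] at h3
    have h4 : MemLocalIdeal M ((Q.primPart.coeff i : ℤ) : ℂ) := by simpa using h3
    rw [Int.natCast_dvd]
    refine (memI_natCast hM).1 ?_
    rcases Int.natAbs_eq (Q.primPart.coeff i) with e | e <;> rw [e] at h4
    · rwa [Int.cast_natCast] at h4
    · rw [Int.cast_neg, Int.cast_natCast] at h4; simpa using memI_neg h4
  have h5 := (isPrimitive_primPart Q) (p : ℤ) h2
  rw [Int.isUnit_iff_natAbs_eq, Int.natAbs_natCast] at h5
  exact hM.1.one_lt.ne' h5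

/-- Among finitely many algebraic integers, not all zero, one divides the others in the local ring. -/
theorem exists_dvd_min (hM : IsPModular p M) {ι : Type*} (s : Finset ι) (D : ι → ℂ)
    (hD : ∀ i, IsIntegral ℤ (D i)) (hne : ∃ i ∈ s, D i ≠ 0) :
    ∃ i ∈ s, D i ≠ 0 ∧ ∀ j ∈ s, MemLocalRing M (D j / D i) := by
  classical
  induction s using Finset.induction_on with
  | empty => simp at hne
  | insert a s ha ih =>
    by_cases h : ∃ i ∈ s, D i ≠ 0
    · obtain ⟨i, hi, hi0, hmin⟩ := ih h
      rcases memR_or_memR_inv hM (((hD a).isAlgebraic).mul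
          (IsAlgebraic.inv ((hD i).isAlgebraic))) with h1 | h1
      · rw [← div_eq_mul_inv] at h1
        exact ⟨i, Finset.mem_insert_of_mem hi, hi0, fun j hj => by
          rcases Finset.mem_insert.1 hj with rfl | hj
          · exact h1
          · exact hmin j hj⟩
      · rw [← div_eq_mul_inv, inv_div] at h1
        by_cases ha0 : D a = 0
        · refine ⟨i, Finset.mem_insert_of_mem hi, hi0, fun j hj => ?_⟩
          rcases Finset.mem_insert.1 hj with rfl | hj
          · rw [ha0, zero_div]; exact memR_zero hM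
          · exact hmin j hj
        · refine ⟨a, Finset.mem_insert_self a s, ha0, fun j hj => ?_⟩
          rcases Finset.mem_insert.1 hj with rfl | hj
          · rw [div_self ha0]; exact memR_one hM
          · rw [← div_mul_div_cancel₀ hi0]; exact memR_mul hM (hmin j hj) h1
    · push Not at h
      obtain ⟨i, hi, hi0⟩ := hne
      obtain rfl : i = a := by
        rcases Finset.mem_insert.1 hi with e | e
        · exact e
        · exact absurd (h i e) hi0
      refine ⟨i, hi, hi0, fun j hj => ?_⟩
      rcases Finset.mem_insert.1 hj with rfl | hj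
      · rw [div_self hi0]; exact memR_one hM
      · rw [h j hj, zero_div]; exact memR_zero hM

section realisation

variable {G : Type*} [Group G] [Fintype G]

theorem sum_translate_eq {χ : G → ℂ} (hχ : IsIrrCharacter G χ) {f : G → ℂ}
    (hf : IsClassFunction G f) (h x : G) :
    ∑ g, f g * χ (h * (g * x)) = omega χ f * χ (h * x) := by
  rw [omega_eq_sum]
  obtain ⟨n, ρ, hi, rfl⟩ := hχ
  have h1 := Char.groupSumOp_eq_smul ρ hf
  simp only [Representation.character, map_mul, Representation.char_one] at h1 ⊢
  have h2 := congrArg (fun T => LinearMap.trace ℂ (Fin n → ℂ) (ρ h * (T * ρ x))) h1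
  simp only [Char.groupSumOp, Finset.sum_mul, Finset.mul_sum, smul_mul_assoc, mul_smul_comm,
    map_sum, map_smul, smul_eq_mul] at h2
  rw [h2]
  simp [← Module.End.one_eq_id, Representation.char_one, map_one]

/-- A multiple of an irreducible character is afforded by matrices with local integer entries. -/
theorem exists_realisation (hM : IsPModular p M) {χ : G → ℂ} (hχ : IsIrrCharacter G χ) :
    ∃ (n : ℕ) (ρ : G →* Matrix (Fin n) (Fin n) ℂ), 0 < n ∧
      (∀ g i j, MemLocalRing M (ρ g i j)) ∧
      (∀ g, (ρ g).trace = (n / χ 1) * χ g) ∧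
      (∀ f, IsClassFunction G f → ∑ g, f g • ρ g = omega χ f • (1 : Matrix (Fin n) (Fin n) ℂ)) := by
  classical
  let v : G → G → ℂ := fun x h => χ (h * x)
  obtain ⟨b, hbsub, hbspan, hbli⟩ := exists_linearIndependent ℂ (Set.range v)
  have hbfin : b.Finite := (Set.finite_range v).subset hbsub
  let := hbfin.fintype
  obtain ⟨n, ⟨e⟩⟩ : ∃ n, Nonempty (Fin n ≃ b) := ⟨_, ⟨(Fintype.equivFin b).symm⟩⟩
  choose t ht using fun i => hbsub (e i).2
  have hvt : v ∘ t = Subtype.val ∘ e := _root_.funext ht
  have hli0 : LinearIndependent ℂ (v ∘ t) := by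
    rw [hvt]; exact hbli.comp _ e.injective
  have hspan0 : ∀ x, v x ∈ Submodule.span ℂ (Set.range (v ∘ t)) := fun x => by
    have : Set.range (v ∘ t) = b := by
      rw [hvt, Set.range_comp, e.surjective.range_eq]
      simp
    rw [this, hbspan]
    exact Submodule.subset_span (Set.mem_range_self x)
  let L : (G → ℂ) →ₗ[ℂ] (Fin n → ℂ) := LinearMap.pi fun i =>
    ∑ h, conj (v (t i) h) • LinearMap.proj h
  have hL : ∀ w i, L w i = ∑ h, conj (v (t i) h) * w h := fun w i => by simp [L]
  let D : (Fin n → G) → ℂ := fun s => (Matrix.of fun i j => L (v (s i)) j).det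
  have hint : ∀ g, IsIntegral ℤ (χ g) := fun g =>
    Char.IsCharacter.isIntegral (Char.IsIrrCharacter.isCharacter hχ) g
  have hDint : ∀ s, IsIntegral ℤ (D s) := fun s => by
    refine IsIntegral.det fun i j => ?_
    rw [Matrix.of_apply, hL]
    exact IsIntegral.sum _ fun h _ => ((hint _).map (conj : ℂ →+* ℂ).toIntAlgHom).mul (hint _)
  have hD0 : D t ≠ 0 := by
    have hinj : ∀ w ∈ Submodule.span ℂ (Set.range (v ∘ t)), L w = 0 → w = 0 := by
      intro w hw h0
      obtain ⟨a, ha⟩ := (Submodule.mem_span_range_iff_exists_fun ℂ).1 hw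
      have h1 : ∑ h, conj (w h) * w h = 0 := by
        calc ∑ h, conj (w h) * w h = ∑ h, ∑ i, conj (a i) * (conj (v (t i) h) * w h) := by
              refine Finset.sum_congr rfl fun h _ => ?_
              conv_lhs => arg 1; rw [← ha]
              simp [Finset.sum_mul, mul_assoc]
          _ = ∑ i, conj (a i) * L w i := by
              rw [Finset.sum_comm]; simp [hL, Finset.mul_sum]
          _ = 0 := by simp [h0]
      simp only [← Complex.normSq_eq_conj_mul_self] at h1
      norm_cast at h1
      funext h
      have := (Finset.sum_eq_zero_iff_of_nonneg fun h _ => Complex.normSq_nonneg (w h)).1 h1 h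
        (Finset.mem_univ h)
      exact Complex.normSq_eq_zero.1 this
    have h2 : LinearIndependent ℂ (fun i => L (v (t i))) := by
      refine hli0.map ?_
      rw [Submodule.disjoint_def]
      exact fun w hw hk => hinj w hw hk
    exact isUnit_iff_ne_zero.1 ((Matrix.isUnit_iff_isUnit_det _).1
      (Matrix.linearIndependent_rows_iff_isUnit.1 h2))
  obtain ⟨s, -, hs0, hmin⟩ := exists_dvd_min hM Finset.univ D hDint ⟨t, Finset.mem_univ t, hD0⟩
  have hli : LinearIndependent ℂ (v ∘ s) := by
    refine LinearIndependent.of_comp L ?_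
    exact Matrix.linearIndependent_rows_of_det_ne_zero hs0
  have hspan : ∀ x, ∃ c : Fin n → ℂ, ∑ i, c i • v (s i) = v x := fun x => by
    refine (Submodule.mem_span_range_iff_exists_fun ℂ).1 ?_
    have h1 : Submodule.span ℂ (Set.range (v ∘ s)) = Submodule.span ℂ (Set.range (v ∘ t)) := by
      refine Submodule.eq_of_le_of_finrank_le (Submodule.span_le.2 ?_) ?_
      · rintro _ ⟨i, rfl⟩; exact hspan0 _
      · rw [finrank_span_eq_card hli, finrank_span_eq_card hli0]
    exact h1 ▸ hspan0 x
  choose c hc using hspan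
  have huniq : ∀ a a' : Fin n → ℂ, ∑ i, a i • v (s i) = ∑ i, a' i • v (s i) → a = a' :=
    fun a a' h => _root_.funext (hli.eq_coords_of_eq h)
  have hcR : ∀ x i, MemLocalRing M (c x i) := fun x i => by
    have h1 : D (Function.update s i x) = c x i * D s := by
      simp only [D]
      rw [← smul_eq_mul, ← Matrix.det_updateRow_sum]
      congr 1
      ext k j
      by_cases hk : k = i
      · subst hk
        simp [← hc x]
      · simp [hk]
    have h2 := hmin (Function.update s i x) (Finset.mem_univ _)
    rwa [h1, mul_div_assoc, div_self hs0, mul_one] at h2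
  let R : G → Matrix (Fin n) (Fin n) ℂ := fun g => Matrix.of fun i j => c (g * s j) i
  have htrans : ∀ g x, ∑ i, c x i • v (g * s i) = v (g * x) := fun g x => by
    funext h
    have := congrFun (hc x) (h * g)
    simpa [v, mul_assoc] using this
  have hR1 : R 1 = 1 := by
    ext i j
    have : c (s j) = fun k => (1 : Matrix (Fin n) (Fin n) ℂ) k j :=
      huniq _ _ (by simp [hc, Matrix.one_apply, ite_smul])
    simp [R, this]
  have hRm : ∀ g g', R (g * g') = R g * R g' := fun g g' => by
    ext i j
    have : c (g * g' * s j) = fun k => ∑ l, c (g * s l) k * c (g' * s j) l := huniq _ _ (by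
      rw [hc]
      simp only [Finset.sum_smul]
      rw [Finset.sum_comm, mul_assoc, ← htrans]
      refine Finset.sum_congr rfl fun l _ => ?_
      rw [← hc (g * s l), Finset.smul_sum]
      exact Finset.sum_congr rfl fun k _ => by rw [smul_smul, mul_comm])
    simp [R, this, Matrix.mul_apply]
  let ρ : G →* Matrix (Fin n) (Fin n) ℂ := ⟨⟨R, hR1⟩, hRm⟩
  have hop : ∀ f, IsClassFunction G f →
      ∑ g, f g • ρ g = omega χ f • (1 : Matrix (Fin n) (Fin n) ℂ) := fun f hf => by
    ext i j
    have : (fun k => ∑ g, f g * c (g * s j) k) =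
        fun k => omega χ f * (1 : Matrix (Fin n) (Fin n) ℂ) k j := huniq _ _ (by
      simp only [Finset.sum_smul, mul_smul]
      rw [Finset.sum_comm]
      simp only [← Finset.smul_sum, hc]
      simp only [Matrix.one_apply, ite_smul, one_smul, zero_smul, Finset.sum_ite_eq',
        Finset.mem_univ, if_true]
      funext h
      simpa [v] using sum_translate_eq hχ hf h (s j))
    simpa [ρ, R, Matrix.sum_apply] using congrFun this i
  have hn : 0 < n := by
    rcases Nat.eq_zero_or_pos n with h0 | h0
    · exfalso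
      haveI : IsEmpty (Fin n) := by rw [h0]; infer_instance
      have := congrFun (hc 1) 1
      simp [v] at this
      exact Char.IsIrrCharacter.apply_one_ne_zero hχ this.symm
    · exact h0
  refine ⟨n, ρ, hn, fun g i j => hcR _ _, ?_, hop⟩
  set Θ : G → ℂ := fun g => (ρ g).trace
  set k : ℂ := n / χ 1
  have hΘ : IsClassFunction G Θ := fun g h => by
    simp only [Θ, map_mul]
    rw [Matrix.trace_mul_cycle, ← map_mul, inv_mul_cancel, map_one, one_mul]
  have hdiff : IsClassFunction G (fun g => conj (Θ g - k * χ g)) := fun g h => by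
    simp [hΘ g h, Char.IsIrrCharacter.isClassFunction hχ g h]
  have h1 := congrArg Matrix.trace (hop _ hdiff)
  simp only [Matrix.trace_sum, Matrix.trace_smul, Matrix.trace_one, Fintype.card_fin, smul_eq_mul,
    omega_eq_sum] at h1
  have h2 : ∑ g, conj (Θ g - k * χ g) * (Θ g - k * χ g) = 0 := by
    calc ∑ g, conj (Θ g - k * χ g) * (Θ g - k * χ g)
        = ∑ g, conj (Θ g - k * χ g) * Θ g - k * ∑ g, conj (Θ g - k * χ g) * χ g := by
          rw [Finset.mul_sum, ← Finset.sum_sub_distrib]
          exact Finset.sum_congr rfl fun g _ => by ring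
      _ = 0 := by rw [h1]; simp only [k]; ring
  simp only [← Complex.normSq_eq_conj_mul_self] at h2
  norm_cast at h2
  intro g
  have := (Finset.sum_eq_zero_iff_of_nonneg fun h _ => Complex.normSq_nonneg _).1 h2 g
    (Finset.mem_univ g)
  exact sub_eq_zero.1 (Complex.normSq_eq_zero.1 this)

end realisation

theorem sum_split_involutive {α β : Type*} [Fintype α] [DecidableEq α] [AddCommMonoid β]
    (s : Finset α) (c : α → α) (hs : ∀ a ∈ s, c a ∈ s) (hc : ∀ a ∈ s, c (c a) = a) :
    ∃ A : Finset α, A ⊆ s ∧ ∀ F : α → β,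
      ∑ a ∈ s, F a = ∑ a ∈ s with c a = a, F a + (∑ a ∈ A, F a + ∑ a ∈ A, F (c a)) := by
  let e := Fintype.equivFin α
  refine ⟨s.filter fun a => e a < e (c a), Finset.filter_subset _ _, fun F => ?_⟩
  rw [← Finset.sum_filter_add_sum_filter_not s (fun a => c a = a)]
  congr 1
  rw [← Finset.sum_filter_add_sum_filter_not (s.filter fun a => ¬ c a = a) (fun a => e a < e (c a))]
  congr 1
  · rw [Finset.filter_filter]
    refine Finset.sum_congr (Finset.filter_congr fun a _ => ?_) fun _ _ => rfl
    exact ⟨fun h => h.2, fun h => ⟨fun he => absurd h (by rw [he]; exact lt_irrefl _), h⟩⟩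
  · refine Finset.sum_nbij' c c ?_ ?_ ?_ ?_ ?_
    · intro a ha
      simp only [Finset.mem_filter] at ha ⊢
      refine ⟨hs a ha.1.1, ?_⟩
      rw [hc a ha.1.1]
      exact lt_of_le_of_ne (not_lt.1 ha.2) fun h => ha.1.2 (e.injective h)
    · intro a ha
      simp only [Finset.mem_filter] at ha ⊢
      refine ⟨⟨hs a ha.1, ?_⟩, ?_⟩
      · rw [hc a ha.1]
        exact fun h => absurd ha.2 (by rw [← h]; exact lt_irrefl _)
      · rw [hc a ha.1]; exact not_lt.2 ha.2.le
    · intro a ha; exact hc a (Finset.mem_filter.1 (Finset.mem_filter.1 ha).1).1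
    · intro a ha; exact hc a (Finset.mem_filter.1 ha).1
    · intro a ha; rw [hc a (Finset.mem_filter.1 (Finset.mem_filter.1 ha).1).1]

/-- If a unit multiple of the idempotent `P` has the form `P (R + Z R Z) P` for an involution `Z`
commuting with `P`, then `Z P` has trace zero. -/
theorem trace_mul_eq_zero {n : Type*} [Fintype n] [DecidableEq n] (hM : IsPModular p M) (hp : p = 2)
    (Z P R₀ : Matrix n n ℂ) (τ : ℂ) (hZR : ∀ i j, MemLocalRing M (Z i j))
    (hPR : ∀ i j, MemLocalRing M (P i j)) (hR₀ : ∀ i j, MemLocalRing M (R₀ i j))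
    (hZ : Z * Z = 1) (hP : P * P = P) (hZP : Z * P = P * Z) (hτ : τ ≠ 0)
    (hτR : MemLocalRing M τ⁻¹) (h : τ • P = P * (R₀ + Z * R₀ * Z) * P) : (Z * P).trace = 0 := by
  subst hp
  have hmulR : ∀ A B : Matrix n n ℂ, (∀ i j, MemLocalRing M (A i j)) →
      (∀ i j, MemLocalRing M (B i j)) → ∀ i j, MemLocalRing M ((A * B) i j) := fun A B hA hB i j => by
    rw [Matrix.mul_apply]; exact memR_sum hM _ fun k _ => memR_mul hM (hA i k) (hB k j)
  set R := τ⁻¹ • (P * R₀ * P) with hR
  have hRR : ∀ i j, MemLocalRing M (R i j) := fun i j => by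
    rw [hR, Matrix.smul_apply, smul_eq_mul]
    exact memR_mul hM hτR (hmulR _ _ (hmulR _ _ hPR hR₀) hPR i j)
  have hRP : R * P = R := by rw [hR, smul_mul_assoc, mul_assoc _ P P, hP]
  have hPeq : P = R + Z * R * Z := by
    have h1 : Z * (P * R₀ * P) * Z = P * (Z * R₀ * Z) * P := by
      rw [show Z * (P * R₀ * P) * Z = (Z * P) * R₀ * (P * Z) by simp only [mul_assoc], hZP, ← hZP]
      simp only [mul_assoc]
      rw [show Z * (P * (R₀ * (Z * P))) = (Z * P) * (R₀ * (Z * P)) by simp only [mul_assoc], hZP]
      simp only [mul_assoc]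
    rw [hR, mul_smul_comm, smul_mul_assoc, h1, ← smul_add,
      show P * R₀ * P + P * (Z * R₀ * Z) * P = P * (R₀ + Z * R₀ * Z) * P by
        rw [mul_add, add_mul], ← h, inv_smul_smul₀ hτ]
  have hidem : ∀ W : Matrix n n ℂ, W * W = 1 → W * P = P * W → W * R * W = Z * R * Z →
      (R * (1 + W)) * (R * (1 + W)) = R * (1 + W) := by
    intro W hW hWP hWRW
    have h1 : W * R * (1 + W) = W * R * W * (1 + W) := by
      rw [mul_add, mul_add, mul_one, mul_one, mul_assoc _ W W, hW, mul_one, add_comm]
    calc (R * (1 + W)) * (R * (1 + W)) = R * (R * (1 + W) + W * R * (1 + W)) := by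
          rw [mul_assoc, ← mul_assoc (1 + W), add_mul 1 W R, one_mul, add_mul]
      _ = R * (R * (1 + W) + W * R * W * (1 + W)) := by rw [h1]
      _ = R * (P * (1 + W)) := by rw [← add_mul, hWRW, ← hPeq]
      _ = R * (1 + W) := by rw [← mul_assoc, hRP]
  have hQ1 := hidem Z hZ hZP rfl
  have hQ2 := hidem (-Z) (by rw [neg_mul_neg, hZ]) (by rw [neg_mul, mul_neg, hZP])
    (by rw [neg_mul, neg_mul, mul_neg, neg_neg])
  have htr := trace_eq_of_idempotent_congr hM _ _ hQ1 hQ2
    (hmulR _ _ hRR fun i j => by
      rw [Matrix.add_apply, Matrix.one_apply]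
      refine memR_add hM ?_ (hZR i j)
      split_ifs
      · exact memR_one hM
      · exact memR_zero hM)
    (fun i j => by
      have e : (R * (1 + Z)) i j - (R * (1 + -Z)) i j = ((2 : ℕ) : ℂ) * (R * Z) i j := by
        rw [mul_add, mul_add, mul_neg, Matrix.add_apply, Matrix.add_apply, Matrix.neg_apply]
        push_cast; ring
      rw [e]
      exact memI_mul_right hM (memI_p hM) (hmulR _ _ hRR hZR i j))
  simp only [mul_add, mul_one, mul_neg, Matrix.trace_add, Matrix.trace_neg] at htr
  have h0 : (R * Z).trace = 0 := by linear_combination htr / 2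
  rw [hPeq, mul_add, Matrix.trace_add, Matrix.trace_mul_comm Z R, h0, ← mul_assoc, ← mul_assoc,
    hZ, one_mul, h0, add_zero]

end Cfsg.Agent.BrauerSuzuki
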