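/-
The centraliser of an involution that is alone in a quaternion Sylow subgroup of order 8: sections.

* `CentHyp` : the hypotheses on the group `C`
* `p2`, `p'` : the 2-part and the odd part of an element, as fixed powers
* `iO`, `iZ`, `iY` : indicators of the three sections; `D = 4 • iY` is a generalized character of norm 4
-/
import Cfsg.Agent.Lib.Char.Orth
import Cfsg.Agent.Lib.Char.Induced
import Cfsg.Agent.Lib.Char.Virtual

set_option autoImplicit false

open scoped ComplexConjugate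
open Subgroup

namespace Cfsg.Agent.BrauerSuzuki

open Cfsg

/-- A group with a central involution, alone, and one class of elements of order four with small centraliser. -/
structure CentHyp (C : Type*) [Group C] where
  z : C
  y : C
  m : ℕ
  hm : Odd m
  card_eq : Nat.card C = 8 * m
  central : ∀ g, g * z = z * g
  hz : orderOf z = 2
  uniq : ∀ g, orderOf g = 2 → g = z
  hy : y * y = z
  no8 : ∀ g : C, ¬ 8 ∣ orderOf g
  conj4 : ∀ g, orderOf g = 4 → IsConj y g
  cy : ¬ 8 ∣ Nat.card (centralizer ({y} : Set C))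

theorem exists_exps {m : ℕ} (hm : Odd m) : ∃ a b : ℕ,
    m ∣ a ∧ a ≡ 1 [MOD 8] ∧ 8 ∣ b ∧ b ≡ 1 [MOD m] := by
  have hc : Nat.Coprime 8 m :=
    ((Nat.prime_two.coprime_iff_not_dvd).2 fun h => (Nat.not_even_iff_odd.2 hm) (even_iff_two_dvd.2 h)).pow_left 3
  obtain ⟨a, ha1, ha2⟩ := Nat.chineseRemainder hc 1 0
  obtain ⟨b, hb1, hb2⟩ := Nat.chineseRemainder hc 0 1
  exact ⟨a, b, Nat.modEq_zero_iff_dvd.1 ha2, ha1, Nat.modEq_zero_iff_dvd.1 hb1, hb2⟩

theorem card_transporter {C : Type*} [Group C] {s t : C} (h : IsConj s t) :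
    Nat.card {x : C // x⁻¹ * s * x = t} = Nat.card (centralizer ({t} : Set C)) := by
  obtain ⟨c, hc⟩ := isConj_iff.1 h
  refine Nat.card_congr (Equiv.subtypeEquiv (Equiv.mulLeft c) fun x => ?_)
  rw [Equiv.coe_mulLeft, mem_centralizer_singleton_iff]
  constructor
  · intro hx
    calc c * x * t = c * x * (x⁻¹ * s * x) := by rw [hx]
      _ = (c * s * c⁻¹) * (c * x) := by group
      _ = t * (c * x) := by rw [hc]
  · intro hx
    calc x⁻¹ * s * x = (c * x)⁻¹ * ((c * s * c⁻¹) * (c * x)) := by group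
      _ = (c * x)⁻¹ * (c * x * t) := by rw [hc, hx]
      _ = t := by group

/-- The sign character attached to a homomorphism with at most two values `1`, `z`. -/
theorem exists_sign_hom {A K : Type*} [Group A] [Group K] [DecidableEq K] {z : K} (hz : z * z = 1)
    (hz1 : z ≠ 1) (f : A →* K) (hf : ∀ a, f a = 1 ∨ f a = z) :
    ∃ l : A →* ℂ, ∀ a, l a = if f a = 1 then 1 else -1 := by
  refine ⟨⟨⟨fun a => if f a = 1 then 1 else -1, by simp⟩, fun a b => ?_⟩, fun a => rfl⟩
  show (if f (a * b) = 1 then (1 : ℂ) else -1) = _ * _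
  rw [map_mul]
  rcases hf a with ha | ha <;> rcases hf b with hb | hb <;> simp [ha, hb, hz, hz1]

variable {C : Type*} [Group C]

namespace CentHyp

variable (H : CentHyp C)

/-- The exponent giving the 2-part. -/
noncomputable def e : ℕ := (exists_exps H.hm).choose

/-- The exponent giving the odd part. -/
noncomputable def e' : ℕ := (exists_exps H.hm).choose_spec.choose

theorem dvd_e : H.m ∣ H.e := (exists_exps H.hm).choose_spec.choose_spec.1
theorem e_mod : H.e ≡ 1 [MOD 8] := (exists_exps H.hm).choose_spec.choose_spec.2.1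
theorem dvd_e' : 8 ∣ H.e' := (exists_exps H.hm).choose_spec.choose_spec.2.2.1
theorem e'_mod : H.e' ≡ 1 [MOD H.m] := (exists_exps H.hm).choose_spec.choose_spec.2.2.2

/-- The 2-part of an element. -/
noncomputable def p2 (g : C) : C := g ^ H.e

/-- The odd part of an element. -/
noncomputable def p' (g : C) : C := g ^ H.e'

theorem m_ne_zero : H.m ≠ 0 := fun h => by simpa [h] using H.hm

theorem coprime : Nat.Coprime 8 H.m :=
  ((Nat.prime_two.coprime_iff_not_dvd).2
    fun h => (Nat.not_even_iff_odd.2 H.hm) (even_iff_two_dvd.2 h)).pow_left 3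

theorem pow_of_modEq {g : C} {k a b : ℕ} (hk : g ^ k = 1) (h : a ≡ b [MOD k]) : g ^ a = g ^ b :=
  pow_eq_pow_iff_modEq.2 (h.of_dvd (orderOf_dvd_of_pow_eq_one hk))

theorem pow_card' (g : C) : g ^ (8 * H.m) = 1 := by rw [← H.card_eq]; exact pow_card_eq_one'

theorem p2_mul_p' (g : C) : H.p2 g * H.p' g = g := by
  rw [p2, p', ← pow_add]
  conv_rhs => rw [← pow_one g]
  refine pow_of_modEq (H.pow_card' g) ((Nat.modEq_and_modEq_iff_modEq_mul H.coprime).1 ⟨?_, ?_⟩)
  · simpa using H.e_mod.add (Nat.modEq_zero_iff_dvd.2 H.dvd_e')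
  · simpa using (Nat.modEq_zero_iff_dvd.2 H.dvd_e).add H.e'_mod

theorem commute_p2_p' (g : C) : Commute (H.p2 g) (H.p' g) := Commute.pow_pow_self g _ _

theorem p2_pow8 (g : C) : H.p2 g ^ 8 = 1 := by
  obtain ⟨c, hc⟩ := H.dvd_e
  rw [p2, ← pow_mul, hc, show H.m * c * 8 = 8 * H.m * c by ring, pow_mul, H.pow_card', one_pow]

theorem p'_pow_m (g : C) : H.p' g ^ H.m = 1 := by
  obtain ⟨c, hc⟩ := H.dvd_e'
  rw [p', ← pow_mul, hc, show 8 * c * H.m = 8 * H.m * c by ring, pow_mul, H.pow_card', one_pow]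

theorem p2_eq_self {a : C} (ha : a ^ 8 = 1) : H.p2 a = a := by
  rw [p2, pow_of_modEq ha H.e_mod, pow_one]

theorem p2_eq_one {v : C} (hv : v ^ H.m = 1) : H.p2 v = 1 := by
  obtain ⟨c, hc⟩ := H.dvd_e
  rw [p2, hc, pow_mul, hv, one_pow]

theorem p'_eq_one {a : C} (ha : a ^ 8 = 1) : H.p' a = 1 := by
  obtain ⟨c, hc⟩ := H.dvd_e'
  rw [p', hc, pow_mul, ha, one_pow]

theorem p'_eq_self {v : C} (hv : v ^ H.m = 1) : H.p' v = v := by
  rw [p', pow_of_modEq hv H.e'_mod, pow_one]

theorem p2_mul {a v : C} (ha : a ^ 8 = 1) (hv : v ^ H.m = 1) (hc : Commute a v) :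
    H.p2 (a * v) = a ∧ H.p' (a * v) = v := by
  constructor
  · rw [p2, hc.mul_pow]; show H.p2 a * H.p2 v = a; rw [H.p2_eq_self ha, H.p2_eq_one hv, mul_one]
  · rw [p', hc.mul_pow]; show H.p' a * H.p' v = v; rw [H.p'_eq_one ha, H.p'_eq_self hv, one_mul]

theorem p2_conj (c g : C) : H.p2 (c * g * c⁻¹) = c * H.p2 g * c⁻¹ := conj_pow
theorem p'_conj (c g : C) : H.p' (c * g * c⁻¹) = c * H.p' g * c⁻¹ := conj_pow

theorem zz : H.z * H.z = 1 := by rw [← pow_two, ← H.hz]; exact pow_orderOf_eq_one _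
theorem z_ne_one : H.z ≠ 1 := fun h => by simpa [h] using H.hz
theorem z8 : H.z ^ 8 = 1 := by rw [show 8 = 2 * 4 from rfl, pow_mul, pow_two, H.zz, one_pow]
theorem z_inv : H.z⁻¹ = H.z := inv_eq_of_mul_eq_one_right H.zz
theorem commute_z (g : C) : Commute g H.z := H.central g

theorem conj_z (c : C) : c * H.z * c⁻¹ = H.z := by rw [H.central c, mul_inv_cancel_right]

theorem orderOf_y : orderOf H.y = 4 := by
  have h := orderOf_eq_prime_pow (p := 2) (n := 1) (x := H.y)
    (by rw [pow_one, pow_two, H.hy]; exact H.z_ne_one)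
    (by rw [show (2 : ℕ) ^ (1 + 1) = 2 * 2 from rfl, pow_mul, pow_two, pow_two, H.hy]; exact H.zz)
  simpa using h

theorem y4 : H.y ^ 4 = 1 := by rw [← H.orderOf_y]; exact pow_orderOf_eq_one _

/-- The possible 2-parts. -/
theorem cases {a : C} (ha : a ^ 8 = 1) : a = 1 ∨ a = H.z ∨ orderOf a = 4 := by
  have h := orderOf_dvd_of_pow_eq_one ha
  have hd : orderOf a ∈ ({1, 2, 4, 8} : Finset ℕ) := by
    have := Nat.mem_divisors.2 ⟨h, by norm_num⟩
    simpa [show Nat.divisors 8 = {1, 2, 4, 8} by decide] using this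
  simp only [Finset.mem_insert, Finset.mem_singleton] at hd
  rcases hd with h | h | h | h
  · exact Or.inl (orderOf_eq_one_iff.1 h)
  · exact Or.inr (Or.inl (H.uniq a h))
  · exact Or.inr (Or.inr h)
  · exact absurd (h ▸ dvd_rfl) (H.no8 a)

theorem sq_eq_z {a : C} (ha : orderOf a = 4) : a * a = H.z := by
  refine H.uniq _ ?_
  rw [← pow_two, orderOf_pow' a two_ne_zero, ha]
  norm_num

theorem p2_sq_cases (g : C) : H.p2 g * H.p2 g = 1 ∨ H.p2 g * H.p2 g = H.z := by
  rcases H.cases (H.p2_pow8 g) with h | h | h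
  · left; rw [h, one_mul]
  · left; rw [h, H.zz]
  · right; exact H.sq_eq_z h

theorem p2_sq_eq_one_iff (g : C) : H.p2 g * H.p2 g = 1 ↔ H.p2 g = 1 ∨ H.p2 g = H.z := by
  constructor
  · intro h
    rcases H.cases (H.p2_pow8 g) with h' | h' | h'
    · exact Or.inl h'
    · exact Or.inr h'
    · exact absurd ((H.sq_eq_z h').symm.trans h) H.z_ne_one
  · rintro (h | h) <;> rw [h]
    · exact one_mul 1
    · exact H.zz

theorem p2_z_mul (g : C) : H.p2 (H.z * g) = H.z * H.p2 g := by
  rw [p2, (H.commute_z g).symm.mul_pow]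
  show H.p2 H.z * H.p2 g = _
  rw [H.p2_eq_self H.z8]

theorem p'_z_mul (g : C) : H.p' (H.z * g) = H.p' g := by
  rw [p', (H.commute_z g).symm.mul_pow]
  show H.p' H.z * H.p' g = _
  rw [H.p'_eq_one H.z8, one_mul]

theorem z_mul_z_mul (g : C) : H.z * (H.z * g) = g := by rw [← mul_assoc, H.zz, one_mul]

theorem z_mul_ne_one_or_z {a : C} (ha : orderOf a = 4) : H.z * a ≠ 1 ∧ H.z * a ≠ H.z := by
  constructor
  · intro h
    have : a = H.z := by rw [← H.z_mul_z_mul a, h, mul_one]
    rw [this, H.hz] at ha; norm_num at ha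
  · intro h
    rw [mul_eq_left.mp h, orderOf_one] at ha; norm_num at ha

open Classical in
/-- Indicator of the odd section. -/
noncomputable def iO (g : C) : ℂ := if H.p2 g = 1 then 1 else 0

open Classical in
/-- Indicator of the odd section times `z`. -/
noncomputable def iZ (g : C) : ℂ := if H.p2 g = H.z then 1 else 0

/-- Indicator of the section of `y`. -/
noncomputable def iY (g : C) : ℂ := 1 - H.iO g - H.iZ g

/-- The basic generalized character `4 • iY`. -/
noncomputable def D (g : C) : ℂ := 4 * H.iY g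

theorem values (g : C) :
    (H.p2 g = 1 ∧ H.iO g = 1 ∧ H.iZ g = 0 ∧ H.iY g = 0) ∨
    (H.p2 g = H.z ∧ H.iO g = 0 ∧ H.iZ g = 1 ∧ H.iY g = 0) ∨
    (orderOf (H.p2 g) = 4 ∧ H.iO g = 0 ∧ H.iZ g = 0 ∧ H.iY g = 1) := by
  have h1 := H.z_ne_one
  rcases H.cases (H.p2_pow8 g) with h | h | h
  · left; simp [iY, iO, iZ, h, Ne.symm h1]
  · right; left; simp [iY, iO, iZ, h, h1]
  · right; right
    have h2 : H.p2 g ≠ 1 := fun e => by rw [e, orderOf_one] at h; norm_num at h
    have h3 : H.p2 g ≠ H.z := fun e => by rw [e, H.hz] at h; norm_num at h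
    simp [iY, iO, iZ, h, h2, h3]

theorem iY_eq_one {g : C} (h : orderOf (H.p2 g) = 4) : H.iY g = 1 := by
  rcases H.values g with h' | h' | h'
  · rw [h'.1, orderOf_one] at h; norm_num at h
  · rw [h'.1, H.hz] at h; norm_num at h
  · exact h'.2.2.2

theorem isClassFunction_iO : IsClassFunction C H.iO := fun g h => by
  classical
  have : (H.p2 (h * g * h⁻¹) = 1) ↔ H.p2 g = 1 := by rw [H.p2_conj, conj_eq_one_iff]
  simp only [iO]; exact if_congr this rfl rfl

theorem isClassFunction_iZ : IsClassFunction C H.iZ := fun g h => by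
  classical
  have : (H.p2 (h * g * h⁻¹) = H.z) ↔ H.p2 g = H.z := by
    rw [H.p2_conj]
    constructor
    · intro e
      rw [← H.conj_z h⁻¹, ← e]; group
    · intro e; rw [e, H.conj_z]
  simp only [iZ]; exact if_congr this rfl rfl

theorem isClassFunction_iY : IsClassFunction C H.iY := fun g h => by
  simp [iY, H.isClassFunction_iO g h, H.isClassFunction_iZ g h]

theorem isClassFunction_D : IsClassFunction C H.D := fun g h => by
  simp [D, H.isClassFunction_iY g h]

theorem iO_z_mul (g : C) : H.iO (H.z * g) = H.iZ g := by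
  classical
  have : (H.z * H.p2 g = 1) ↔ H.p2 g = H.z := by
    rw [mul_eq_one_iff_inv_eq, H.z_inv, eq_comm]
  simp only [iO, iZ]; rw [H.p2_z_mul]; exact if_congr this rfl rfl

theorem iZ_z_mul (g : C) : H.iZ (H.z * g) = H.iO g := by
  classical
  simp only [iO, iZ]; rw [H.p2_z_mul]; exact if_congr mul_eq_left rfl rfl

theorem iY_z_mul (g : C) : H.iY (H.z * g) = H.iY g := by
  simp only [iY, H.iO_z_mul, H.iZ_z_mul]; ring

theorem D_one : H.D 1 = 0 := by
  have : H.p2 1 = 1 := one_pow _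
  simp [D, iY, iO, iZ, this, Ne.symm H.z_ne_one]

theorem conj_iO (g : C) : conj (H.iO g) = H.iO g := by simp [iO, apply_ite (starRingEnd ℂ)]
theorem conj_iZ (g : C) : conj (H.iZ g) = H.iZ g := by simp [iZ, apply_ite (starRingEnd ℂ)]
theorem conj_iY (g : C) : conj (H.iY g) = H.iY g := by simp [iY, H.conj_iO, H.conj_iZ]

/-! ### The centraliser of `y` -/

theorem p2_mem_four {g : C} (hg : Commute g H.y) (h : orderOf (H.p2 g) = 4) :
    H.p2 g = H.y ∨ H.p2 g = H.z * H.y := by
  have hc : Commute (H.p2 g) H.y := hg.pow_left _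
  set b := H.p2 g * H.y
  have hb : b * b = 1 := by
    show H.p2 g * H.y * (H.p2 g * H.y) = 1
    rw [mul_assoc, ← mul_assoc H.y, ← hc.eq, mul_assoc (H.p2 g), H.hy, ← mul_assoc, H.sq_eq_z h, H.zz]
  have hy' : H.y⁻¹ = H.z * H.y :=
    inv_eq_of_mul_eq_one_right (by rw [← mul_assoc, H.central, mul_assoc, H.hy, H.zz])
  have hb8 : b ^ 8 = 1 := by rw [show 8 = 2 * 4 from rfl, pow_mul, pow_two, hb, one_pow]
  rcases H.cases hb8 with e | e | e
  · right
    rw [← hy']; exact eq_inv_of_mul_eq_one_left e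
  · left
    have : H.p2 g = H.z * H.y⁻¹ := eq_mul_inv_of_mul_eq e
    rw [this, hy', H.z_mul_z_mul]
  · rw [← pow_two] at hb
    have := orderOf_dvd_of_pow_eq_one hb
    rw [e] at this; norm_num at this

variable [Finite C]

theorem odd_index_center :
    Odd (Subgroup.center (centralizer ({H.y} : Set C))).index := by
  set Cy := centralizer ({H.y} : Set C)
  have hyC : H.y ∈ Cy := mem_centralizer_singleton_iff.2 rfl
  have hle : zpowers (⟨H.y, hyC⟩ : Cy) ≤ Subgroup.center Cy := by
    rw [zpowers_le, mem_center_iff]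
    intro g
    exact Subtype.ext (mem_centralizer_singleton_iff.1 g.2)
  have h4 : Nat.card (zpowers (⟨H.y, hyC⟩ : Cy)) = 4 := by
    rw [Nat.card_zpowers, Subgroup.orderOf_mk, H.orderOf_y]
  have hodd : Odd (zpowers (⟨H.y, hyC⟩ : Cy)).index := by
    rw [← Nat.not_even_iff_odd, even_iff_two_dvd]
    intro h
    apply H.cy
    rw [← (zpowers (⟨H.y, hyC⟩ : Cy)).card_mul_index, h4, show 8 = 4 * 2 from rfl]
    exact Nat.mul_dvd_mul_left 4 h
  exact hodd.of_dvd_nat (index_dvd_of_le hle)

theorem exists_hom_p2 : ∃ f : centralizer ({H.y} : Set C) →* C,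
    ∀ g : centralizer ({H.y} : Set C), f g = H.p2 g := by
  set Cy := centralizer ({H.y} : Set C)
  have hk := H.odd_index_center
  set k := (Subgroup.center Cy).index
  let f0 := MonoidHom.transferCenterPow Cy
  let f1 : Subgroup.center Cy →* C :=
    { toFun := fun a => ((a : Cy) : C) ^ (H.e * k)
      map_one' := by simp
      map_mul' := fun a b => by
        rw [Subgroup.coe_mul, Subgroup.coe_mul, Commute.mul_pow]
        exact congrArg Subtype.val (mem_center_iff.1 b.2 a : (a : Cy) * b = b * a) }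
  refine ⟨f1.comp f0, fun g => ?_⟩
  show (((f0 g : Subgroup.center Cy) : Cy) : C) ^ (H.e * k) = H.p2 g
  have hsq : k * k ≡ 1 [MOD 8] := by
    have h1 : k % 2 = 1 := Nat.odd_iff.1 hk
    have h2 : k % 8 = 1 ∨ k % 8 = 3 ∨ k % 8 = 5 ∨ k % 8 = 7 := by omega
    rw [Nat.ModEq, Nat.mul_mod]
    rcases h2 with h | h | h | h <;> rw [h]
  rw [MonoidHom.transferCenterPow_apply, Subgroup.coe_pow, ← pow_mul, show k * (H.e * k) = H.e * (k * k) by ring,
    pow_mul, show ((g : C) ^ H.e) = H.p2 g from rfl, pow_of_modEq (H.p2_pow8 g) hsq, pow_one]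

theorem exists_sigma : ∃ σ : centralizer ({H.y} : Set C) →* ℂ,
    (∀ g : centralizer ({H.y} : Set C), 2 * H.iY g = 1 - σ g) ∧ ∃ g, σ g = -1 := by
  classical
  obtain ⟨f, hf⟩ := H.exists_hom_p2
  let f2 : centralizer ({H.y} : Set C) →* C :=
    { toFun := fun g => f g * f g
      map_one' := by simp
      map_mul' := fun a b => by
        rw [← map_mul, ← map_mul, ← map_mul, ← map_mul]
        have h : Commute (f a) (f b) := by
          rcases H.cases (a := f a) (by rw [hf]; exact H.p2_pow8 _) with h | h | h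
          · rw [h]; exact Commute.one_left _
          · rw [h]; exact (H.commute_z _).symm
          · rw [hf a] at h
            rcases H.p2_mem_four (mem_centralizer_singleton_iff.1 a.2) h with e | e <;> rw [hf a, e]
            · rw [hf b]; exact (Commute.pow_left (mem_centralizer_singleton_iff.1 b.2 : Commute (b : C) H.y) _).symm
            · rw [hf b]
              exact ((H.commute_z _).symm).mul_left
                (Commute.pow_left (mem_centralizer_singleton_iff.1 b.2 : Commute (b : C) H.y) _).symm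
        simp only [map_mul]
        rw [mul_assoc (f a) (f b), ← mul_assoc (f b) (f a), ← h.eq]
        simp only [mul_assoc] }
  obtain ⟨σ, hσ⟩ := exists_sign_hom H.zz H.z_ne_one f2 fun a => by
    show f a * f a = 1 ∨ f a * f a = H.z
    rw [hf]; exact H.p2_sq_cases _
  refine ⟨σ, fun g => ?_, ⟨⟨H.y, mem_centralizer_singleton_iff.2 rfl⟩, ?_⟩⟩
  · rw [hσ]
    show 2 * H.iY g = 1 - if f g * f g = 1 then (1 : ℂ) else -1
    rw [hf]
    rcases H.values g with h | h | h
    · rw [h.2.2.2, if_pos ((H.p2_sq_eq_one_iff _).2 (Or.inl h.1))]; ring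
    · rw [h.2.2.2, if_pos ((H.p2_sq_eq_one_iff _).2 (Or.inr h.1))]; ring
    · rw [h.2.2.2, if_neg (by rw [H.sq_eq_z h.1]; exact H.z_ne_one)]; ring
  · rw [hσ, if_neg]
    show ¬ f _ * f _ = 1
    rw [hf, H.p2_eq_self (by rw [show 8 = 4 * 2 from rfl, pow_mul, H.y4, one_pow]), H.hy]
    exact H.z_ne_one

theorem orderOf_four_conj {g : C} (h : orderOf (H.p2 g) = 4) :
    ∃ c v : C, v ^ H.m = 1 ∧ Commute H.y v ∧ c * g * c⁻¹ = H.y * v := by
  obtain ⟨c, hc⟩ := isConj_iff.1 (H.conj4 _ h)
  refine ⟨c⁻¹, H.p' (c⁻¹ * g * c⁻¹⁻¹), H.p'_pow_m _, ?_, ?_⟩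
  · have := H.commute_p2_p' (c⁻¹ * g * c⁻¹⁻¹)
    rwa [H.p2_conj, ← hc, show c⁻¹ * (c * H.y * c⁻¹) * c⁻¹⁻¹ = H.y by group] at this
  · conv_lhs => rw [← H.p2_mul_p' (c⁻¹ * g * c⁻¹⁻¹)]
    rw [H.p2_conj c⁻¹ g, ← hc]; group

variable [Fintype C]

theorem indFun_sigma :
    Cfsg.indFun (centralizer ({H.y} : Set C))
      (fun g : centralizer ({H.y} : Set C) => 2 * H.iY (g : C)) = H.D := by
  classical
  funext g
  set Cy := centralizer ({H.y} : Set C)
  have hterm : ∀ x : C, extendByZero Cy (fun g : Cy => 2 * H.iY (g : C)) (x⁻¹ * g * x) =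
      if x⁻¹ * g * x ∈ Cy then 2 * H.iY g else 0 := fun x => by
    rw [Char.extendByZero_eq]
    split_ifs with h
    · have := H.isClassFunction_iY g x⁻¹
      rw [inv_inv] at this
      rw [← this]
    · rfl
  simp only [Cfsg.indFun, hterm, D]
  rcases H.values g with h | h | h
  · simp [h.2.2.2]
  · simp [h.2.2.2]
  rw [h.2.2.2, ← Finset.sum_filter, Finset.sum_const, nsmul_eq_mul]
  have hne : H.y ≠ H.z * H.y := fun e => H.z_ne_one (mul_eq_right.1 e.symm)
  have hCy : centralizer ({H.z * H.y} : Set C) = Cy := by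
    ext c
    simp only [Cy, mem_centralizer_singleton_iff]
    rw [← mul_assoc, H.central, mul_assoc, mul_assoc, mul_right_inj]
  have hset : (Finset.univ.filter fun x : C => x⁻¹ * g * x ∈ Cy) =
      (Finset.univ.filter fun x : C => x⁻¹ * H.p2 g * x = H.y) ∪
      (Finset.univ.filter fun x : C => x⁻¹ * H.p2 g * x = H.z * H.y) := by
    ext x
    simp only [Finset.mem_filter, Finset.mem_univ, true_and, Finset.mem_union, Cy,
      mem_centralizer_singleton_iff]
    have e : H.p2 (x⁻¹ * g * x) = x⁻¹ * H.p2 g * x := by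
      have := H.p2_conj x⁻¹ g; rwa [inv_inv] at this
    constructor
    · intro hx
      rw [← e]
      refine H.p2_mem_four hx ?_
      rw [e, show x⁻¹ * H.p2 g * x = MulAut.conj x⁻¹ (H.p2 g) by simp, MulEquiv.orderOf_eq]
      exact h.1
    · intro hx
      have hc : Commute (H.p2 (x⁻¹ * g * x)) (x⁻¹ * g * x) := (Commute.refl _).pow_left _
      rw [e] at hc
      rcases hx with hx | hx <;> rw [hx] at hc
      · exact hc.symm.eq
      · have := ((H.commute_z (x⁻¹ * g * x)).symm).mul_left hc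
        rw [H.z_mul_z_mul] at this
        exact this.symm.eq
  have hdis : Disjoint (Finset.univ.filter fun x : C => x⁻¹ * H.p2 g * x = H.y)
      (Finset.univ.filter fun x : C => x⁻¹ * H.p2 g * x = H.z * H.y) :=
    Finset.disjoint_filter.2 fun x _ h1 h2 => hne (h1.symm.trans h2)
  have hconj : IsConj (H.p2 g) H.y := (H.conj4 _ h.1).symm
  have hconj' : IsConj (H.p2 g) (H.z * H.y) := (H.conj4 _ h.1).symm.trans (H.conj4 _ (by
    rcases H.cases (a := H.z * H.y) (by
      rw [(H.commute_z _).symm.mul_pow, H.z8, one_mul, show 8 = 4 * 2 from rfl, pow_mul, H.y4,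
        one_pow]) with e | e | e
    · exact absurd e (H.z_mul_ne_one_or_z H.orderOf_y).1
    · exact absurd e (H.z_mul_ne_one_or_z H.orderOf_y).2
    · exact e))
  have hcard : ∀ t, IsConj (H.p2 g) t → centralizer ({t} : Set C) = Cy →
      (Finset.univ.filter fun x : C => x⁻¹ * H.p2 g * x = t).card = Nat.card Cy := fun t ht he => by
    rw [← Fintype.card_subtype, ← Nat.card_eq_fintype_card, card_transporter ht, he]
  rw [hset, Finset.card_union_of_disjoint hdis, hcard _ hconj rfl, hcard _ hconj' hCy]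
  have : (Nat.card Cy : ℂ) ≠ 0 := Nat.cast_ne_zero.2 Nat.card_pos.ne'
  push_cast
  field_simp
  ring

theorem isGeneralizedCharacter_D : IsGeneralizedCharacter C H.D := by
  obtain ⟨σ, hσ, -⟩ := H.exists_sigma
  rw [← H.indFun_sigma]
  refine Char.IsGeneralizedCharacter.indFun ?_
  have e : (fun g : centralizer ({H.y} : Set C) => 2 * H.iY (g : C)) =
      (1 : centralizer ({H.y} : Set C) → ℂ) - σ := funext fun g => by simp [hσ]
  rw [e]
  exact Char.IsGeneralizedCharacter.sub
    (Char.isGeneralizedCharacter_of_isCharacter Char.isCharacter_one)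
    (Char.isGeneralizedCharacter_of_isCharacter (Char.isCharacter_of_hom σ))

theorem classInner_D_one : classInner H.D (1 : C → ℂ) = 1 := by
  classical
  obtain ⟨σ, hσ, g₀, hg₀⟩ := H.exists_sigma
  let : Fintype (centralizer ({H.y} : Set C)) := Fintype.ofFinite _
  rw [← H.indFun_sigma, Char.frobenius_reciprocity _ _
    (Char.IsIrrCharacter.isClassFunction Char.isIrrCharacter_one)]
  have e : (fun g : centralizer ({H.y} : Set C) => 2 * H.iY (g : C)) =
      (1 : centralizer ({H.y} : Set C) → ℂ) - σ := funext fun g => by simp [hσ]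
  rw [e, Char.classInner_sub_left]
  show classInner 1 1 - classInner (⇑σ) 1 = 1
  rw [Char.classInner_irr_self Char.isIrrCharacter_one,
    Char.classInner_irr_of_ne (Char.isIrrCharacter_of_hom σ) Char.isIrrCharacter_one
      (fun h => by have := congrFun h g₀; rw [hg₀] at this; norm_num at this), sub_zero]

theorem sum_iY : ∑ g, H.iY g = 2 * H.m := by
  have h := Char.card_mul_classInner H.D (1 : C → ℂ)
  rw [H.classInner_D_one, mul_one, H.card_eq] at h
  simp only [D, Pi.one_apply, map_one, mul_one, ← Finset.mul_sum] at h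
  push_cast at h
  linear_combination -h / 4

theorem sum_z_mul (F : C → ℂ) : ∑ g, F (H.z * g) = ∑ g, F g :=
  Fintype.sum_equiv (Equiv.mulLeft H.z) _ _ fun _ => rfl

theorem sum_iO : ∑ g, H.iO g = 3 * H.m := by
  have h1 : ∑ g, H.iZ g = ∑ g, H.iO g := by
    rw [← H.sum_z_mul H.iO]; exact Finset.sum_congr rfl fun g _ => (H.iO_z_mul g).symm
  have h2 : ∑ g, (H.iO g + H.iZ g + H.iY g) = ∑ _g : C, (1 : ℂ) :=
    Finset.sum_congr rfl fun g _ => by simp [iY]
  rw [Finset.sum_add_distrib, Finset.sum_add_distrib, h1, H.sum_iY, Finset.sum_const,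
    Finset.card_univ, ← Nat.card_eq_fintype_card, H.card_eq, nsmul_one] at h2
  push_cast at h2
  linear_combination h2 / 2

theorem classInner_D_self : classInner H.D H.D = 4 := by
  have h := Char.card_mul_classInner H.D H.D
  rw [H.card_eq] at h
  have e : ∀ g, H.D g * conj (H.D g) = 16 * H.iY g := fun g => by
    simp only [D, map_mul, H.conj_iY, Complex.conj_ofNat]
    rcases H.values g with h | h | h <;> rw [h.2.2.2] <;> ring
  simp only [e, ← Finset.mul_sum, H.sum_iY] at h
  push_cast at h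
  have hm : (H.m : ℂ) ≠ 0 := Nat.cast_ne_zero.2 H.m_ne_zero
  refine mul_left_cancel₀ (mul_ne_zero (by norm_num : (8 : ℂ) ≠ 0) hm) ?_
  linear_combination h

end CentHyp

end Cfsg.Agent.BrauerSuzuki
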