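/-
The three nontrivial constituents of `D` on the centraliser.

* `irr_z` : the central involution acts by a sign
* `AlphaData`, `exists_alphaData` : `D = 1 + ∑ δ k • α k`
* `isIntegral_omega`, `AlphaData.omega_iO`, `AlphaData.odd_degree`
* `AlphaData.value_Y` : `α k` is the constant `δ k` on the section of `y`
-/
import Cfsg.Agent.Lib.BrauerSuzuki.Sections
import Cfsg.Agent.Lib.BrauerSuzuki.Lattice
import Cfsg.Agent.Lib.CentralChar.Fixed

set_option autoImplicit false

open scoped ComplexConjugate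
open Subgroup

namespace Cfsg.Agent.BrauerSuzuki

open Cfsg Cfsg.Agent.Blocks

theorem conj_sign {ε : ℂ} (h : ε = 1 ∨ ε = -1) : conj ε = ε := by
  rcases h with h | h <;> simp [h]

theorem sign_mul_self {ε : ℂ} (h : ε = 1 ∨ ε = -1) : ε * ε = 1 := by
  rcases h with h | h <;> simp [h]

theorem sign_ne_zero {ε : ℂ} (h : ε = 1 ∨ ε = -1) : ε ≠ 0 := by
  rcases h with h | h <;> simp [h]

theorem isIntegral_sign {ε : ℂ} (h : ε = 1 ∨ ε = -1) : IsIntegral ℤ ε := by
  rcases h with h | h <;> rw [h]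
  · exact isIntegral_one
  · exact isIntegral_one.neg

/-- An integer function whose squares sum to three. -/
theorem three_of_sum_sq {ι : Type*} [Fintype ι] (c : ι → ℤ) (h : ∑ i, c i ^ 2 = 3) :
    ∃ f : Fin 3 → ι, Function.Injective f ∧ (∀ k, c (f k) = 1 ∨ c (f k) = -1) ∧
      ∀ i, (∀ k, f k ≠ i) → c i = 0 := by
  classical
  have hle : ∀ i, c i ^ 2 ≤ 3 := fun i =>
    h ▸ Finset.single_le_sum (f := fun i => c i ^ 2) (fun _ _ => sq_nonneg _) (Finset.mem_univ i)
  have hone : ∀ i, c i = 0 ∨ c i = 1 ∨ c i = -1 := fun i => by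
    have h1 := hle i
    have h2 : -1 ≤ c i ∧ c i ≤ 1 := by constructor <;> nlinarith
    omega
  have hc : (Finset.univ.filter fun i => c i ≠ 0).card = 3 := by
    have : ∑ i, c i ^ 2 = ∑ i, if c i ≠ 0 then 1 else 0 :=
      Finset.sum_congr rfl fun i _ => by rcases hone i with e | e | e <;> simp [e]
    rw [this, Finset.sum_boole] at h
    exact_mod_cast h
  let e := (Finset.equivFinOfCardEq hc).symm
  refine ⟨fun k => (e k).1, Subtype.val_injective.comp e.injective, fun k => ?_, fun i hi => ?_⟩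
  · exact (hone _).resolve_left (Finset.mem_filter.1 (e k).2).2
  · by_contra hne
    exact hi (e.symm ⟨i, Finset.mem_filter.2 ⟨Finset.mem_univ _, hne⟩⟩) (by simp)

variable {C : Type*} [Group C] [Fintype C]

theorem isIntegral_omega {θ : C → ℂ} (hθ : IsIrrCharacter C θ) {f : C → ℂ}
    (hf : IsClassFunction C f) (hint : ∀ g, IsIntegral ℤ (f g)) : IsIntegral ℤ (omega θ f) := by
  have := Fintype.ofFinite (ConjClasses C)
  show IsIntegral ℤ (omega ((⟨θ, hθ⟩ : IrrCharacter C) : C → ℂ) f)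
  rw [omega_eq_sum_classes hf]
  exact IsIntegral.sum _ fun q _ => (hint _).mul (isIntegral_centralChar _ _)

theorem classInner_irr_ite {θ φ : C → ℂ} (hθ : IsIrrCharacter C θ) (hφ : IsIrrCharacter C φ)
    [Decidable (θ = φ)] : classInner θ φ = if θ = φ then 1 else 0 := by
  split_ifs with h
  · subst h; exact Char.classInner_irr_self hθ
  · exact Char.classInner_irr_of_ne hθ hφ h

theorem sum_irr_eq_zero {θ : C → ℂ} (hθ : IsIrrCharacter C θ) (h1 : θ ≠ 1) : ∑ g, θ g = 0 := by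
  have h := Char.card_mul_classInner θ (1 : C → ℂ)
  rw [Char.classInner_irr_of_ne hθ Char.isIrrCharacter_one h1, mul_zero] at h
  simpa using h.symm

namespace CentHyp

variable (H : CentHyp C)

theorem irr_z {θ : C → ℂ} (hθ : IsIrrCharacter C θ) :
    ∃ ε : ℂ, (ε = 1 ∨ ε = -1) ∧ ∀ g, θ (H.z * g) = ε * θ g := by
  classical
  let f : C → ℂ := fun g => if g = H.z then 1 else 0
  have hf : IsClassFunction C f := fun g h => by
    have : (h * g * h⁻¹ = H.z) ↔ g = H.z := by
      constructor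
      · intro e; rw [← H.conj_z h⁻¹, ← e]; group
      · intro e; rw [e, H.conj_z]
    exact if_congr this rfl rfl
  have h : ∀ x, θ (H.z * x) = omega θ f * θ x := fun x => by
    have := sum_translate_eq hθ hf 1 x
    simpa [f] using this
  refine ⟨omega θ f, mul_self_eq_one_iff.1 ?_, h⟩
  refine mul_right_cancel₀ (Char.IsIrrCharacter.apply_one_ne_zero hθ) ?_
  rw [mul_assoc, ← h 1, ← h (H.z * 1), H.z_mul_z_mul, one_mul]

theorem classInner_D (θ : C → ℂ) :
    8 * (H.m : ℂ) * classInner H.D θ = 4 * ∑ g, H.iY g * conj (θ g) := by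
  have h := Char.card_mul_classInner H.D θ
  rw [H.card_eq] at h
  push_cast at h
  rw [h, Finset.mul_sum]
  exact Finset.sum_congr rfl fun g _ => by rw [D]; ring

theorem classInner_D_eq_zero {θ : C → ℂ} (h : ∀ g, θ (H.z * g) = -θ g) : classInner H.D θ = 0 := by
  have h1 : ∑ g, H.iY g * conj (θ g) = -∑ g, H.iY g * conj (θ g) := by
    conv_lhs => rw [← H.sum_z_mul (fun g => H.iY g * conj (θ g))]
    rw [← Finset.sum_neg_distrib]
    exact Finset.sum_congr rfl fun g _ => by rw [H.iY_z_mul, h, map_neg]; ring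
  have h2 : ∑ g, H.iY g * conj (θ g) = 0 := by linear_combination h1 / 2
  have := H.classInner_D θ
  rw [h2, mul_zero] at this
  exact (mul_eq_zero.1 this).resolve_left
    (mul_ne_zero (by norm_num) (Nat.cast_ne_zero.2 H.m_ne_zero))

theorem sum_iZ_mul {θ : C → ℂ} {ε : ℂ} (h : ∀ g, θ (H.z * g) = ε * θ g) :
    ∑ g, H.iZ g * θ g = ε * ∑ g, H.iO g * θ g := by
  rw [← H.sum_z_mul (fun g => H.iZ g * θ g), Finset.mul_sum]
  exact Finset.sum_congr rfl fun g _ => by rw [H.iZ_z_mul, h]; ring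

theorem sum_split (F : C → ℂ) :
    ∑ g, F g = ∑ g, H.iO g * F g + ∑ g, H.iZ g * F g + ∑ g, H.iY g * F g := by
  rw [← Finset.sum_add_distrib, ← Finset.sum_add_distrib]
  exact Finset.sum_congr rfl fun g _ => by simp only [iY]; ring

end CentHyp

/-- The nontrivial constituents of `D`. -/
structure AlphaData (H : CentHyp C) where
  α : Fin 3 → C → ℂ
  δ : Fin 3 → ℂ
  irr : ∀ k, IsIrrCharacter C (α k)
  sign : ∀ k, δ k = 1 ∨ δ k = -1
  inj : Function.Injective α
  ne_one : ∀ k, α k ≠ 1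
  D_eq : H.D = 1 + ∑ k, δ k • α k

theorem exists_alphaData (H : CentHyp C) : Nonempty (AlphaData H) := by
  classical
  have := Fintype.ofFinite (IrrCharacter C)
  obtain ⟨c, hD, hc, hn⟩ := Char.IsGeneralizedCharacter.exists_coeffs H.isGeneralizedCharacter_D
  set o : IrrCharacter C := ⟨1, Char.isIrrCharacter_one⟩
  have ho : c o = 1 := by exact_mod_cast (hc o).symm.trans H.classInner_D_one
  rw [H.classInner_D_self] at hn
  have hn' : ∑ χ : IrrCharacter C, c χ ^ 2 = 4 := by exact_mod_cast hn.symm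
  let c' : IrrCharacter C → ℤ := Function.update c o 0
  have h3 : ∑ χ, c' χ ^ 2 = 3 := by
    rw [← Finset.add_sum_erase _ _ (Finset.mem_univ o)] at hn' ⊢
    have : ∑ χ ∈ Finset.univ.erase o, c' χ ^ 2 = ∑ χ ∈ Finset.univ.erase o, c χ ^ 2 :=
      Finset.sum_congr rfl fun χ hχ => by simp [c', Finset.ne_of_mem_erase hχ]
    rw [this, show c' o = 0 by simp [c']]; rw [ho] at hn'; linarith
  obtain ⟨f, hf, hsign, hzero⟩ := three_of_sum_sq c' h3
  have hfo : ∀ k, f k ≠ o := fun k h => by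
    rcases hsign k with e | e <;> simp [c', h] at e
  have hc' : ∀ k, c' (f k) = c (f k) := fun k => by simp [c', hfo k]
  refine ⟨⟨fun k => (f k : C → ℂ), fun k => (c (f k) : ℂ), fun k => (f k).2, fun k => ?_, ?_,
    fun k h => hfo k (Subtype.ext h), ?_⟩⟩
  · rcases hsign k with e | e <;> rw [hc'] at e <;> simp [e]
  · exact Subtype.val_injective.comp hf
  · conv_lhs => rw [hD]
    rw [← Finset.add_sum_erase _ _ (Finset.mem_univ o)]
    congr 1
    · simp [ho, o]
    · rw [← Finset.sum_image (g := f) (f := fun χ : IrrCharacter C => (c χ : ℂ) • (χ : C → ℂ))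
        fun a _ b _ h => hf h]
      symm
      refine Finset.sum_subset (fun χ hχ => ?_) fun χ hχ hni => ?_
      · obtain ⟨k, -, rfl⟩ := Finset.mem_image.1 hχ
        exact Finset.mem_erase.2 ⟨hfo k, Finset.mem_univ _⟩
      · have h0 := hzero χ fun k e => hni (Finset.mem_image.2 ⟨k, Finset.mem_univ _, e⟩)
        have h1 : c χ = 0 := by simpa [c', Finset.ne_of_mem_erase hχ] using h0
        simp [h1]

namespace AlphaData

variable {H : CentHyp C} (A : AlphaData H)

theorem isClassFunction (k : Fin 3) : IsClassFunction C (A.α k) :=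
  Char.IsIrrCharacter.isClassFunction (A.irr k)

theorem classInner_D_irr [DecidableEq (C → ℂ)] {θ : C → ℂ} (hθ : IsIrrCharacter C θ) :
    classInner H.D θ = (if (1 : C → ℂ) = θ then 1 else 0) + ∑ k, A.δ k * if A.α k = θ then 1 else 0 := by
  rw [A.D_eq, Char.classInner_add_left, Char.classInner_sum_left,
    classInner_irr_ite Char.isIrrCharacter_one hθ]
  congr 1
  exact Finset.sum_congr rfl fun k _ => by
    rw [Char.classInner_smul_left, classInner_irr_ite (A.irr k) hθ]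

theorem classInner_D (k : Fin 3) : classInner H.D (A.α k) = A.δ k := by
  classical
  rw [A.classInner_D_irr (A.irr k), if_neg (Ne.symm (A.ne_one k)), zero_add,
    Finset.sum_eq_single k]
  · simp
  · intro l _ hl; rw [if_neg (fun h => hl (A.inj h)), mul_zero]
  · simp

theorem z_mul (k : Fin 3) (g : C) : A.α k (H.z * g) = A.α k g := by
  obtain ⟨ε, hε, h⟩ := H.irr_z (A.irr k)
  rcases hε with rfl | rfl
  · rw [h, one_mul]
  · exfalso
    have h0 := H.classInner_D_eq_zero (θ := A.α k) fun g => by rw [h, neg_one_mul]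
    rw [A.classInner_D] at h0
    exact sign_ne_zero (A.sign k) h0

theorem sum_iY (k : Fin 3) : ∑ g, H.iY g * A.α k g = 2 * H.m * A.δ k := by
  have h := H.classInner_D (A.α k)
  rw [A.classInner_D] at h
  have h2 := congrArg conj h
  simp only [map_mul, map_sum, Complex.conj_natCast, Complex.conj_ofNat, conj_sign (A.sign k),
    H.conj_iY, Complex.conj_conj] at h2
  linear_combination -h2 / 4

theorem sum_iO (k : Fin 3) : ∑ g, H.iO g * A.α k g = -(H.m * A.δ k) := by
  have h := H.sum_split (A.α k)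
  rw [sum_irr_eq_zero (A.irr k) (A.ne_one k),
    H.sum_iZ_mul (ε := 1) fun g => by rw [A.z_mul, one_mul], A.sum_iY] at h
  linear_combination -h / 2

theorem omega_iO (k : Fin 3) : omega (A.α k) H.iO = -(H.m * A.δ k) / A.α k 1 := by
  rw [omega_eq_sum, A.sum_iO]

theorem degree_dvd (k : Fin 3) : ∃ a : ℕ, A.α k 1 = a ∧ 0 < a ∧ a ∣ H.m := by
  obtain ⟨a, ha, he⟩ := Char.IsIrrCharacter.exists_degree (A.irr k)
  refine ⟨a, he, ha, Char.nat_dvd_of_isIntegral_div ha.ne' ?_⟩
  have h := isIntegral_omega (A.irr k) H.isClassFunction_iO fun g => by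
    simp only [CentHyp.iO]; split_ifs <;> simp [isIntegral_one, isIntegral_zero]
  rw [A.omega_iO, he] at h
  have h2 := h.mul (isIntegral_sign (A.sign k)).neg
  have e : (-((H.m : ℂ) * A.δ k) / (a : ℂ)) * -A.δ k = (H.m : ℂ) / a * (A.δ k * A.δ k) := by ring
  rwa [e, sign_mul_self (A.sign k), mul_one] at h2

theorem odd_degree (k : Fin 3) : ∃ a : ℕ, A.α k 1 = a ∧ Odd a := by
  obtain ⟨a, ha, -, hd⟩ := A.degree_dvd k
  exact ⟨a, ha, H.hm.of_dvd_nat hd⟩

theorem omega_unit {M : Ideal AlgInt} (hM : IsPModular 2 M) (k : Fin 3) :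
    omega (A.α k) H.iO ≠ 0 ∧ MemLocalRing M (omega (A.α k) H.iO)⁻¹ := by
  obtain ⟨a, ha, hpos, -⟩ := A.degree_dvd k
  have hm : (H.m : ℂ) ≠ 0 := Nat.cast_ne_zero.2 H.m_ne_zero
  have ha0 : (a : ℂ) ≠ 0 := Nat.cast_ne_zero.2 hpos.ne'
  rw [A.omega_iO, ha]
  refine ⟨div_ne_zero (neg_ne_zero.2 (mul_ne_zero hm (sign_ne_zero (A.sign k)))) ha0, ?_⟩
  have e : (-((H.m : ℂ) * A.δ k) / (a : ℂ))⁻¹ = -((a : ℂ) * A.δ k) * (H.m : ℂ)⁻¹ := by
    have := sign_ne_zero (A.sign k)
    field_simp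
    linear_combination sign_mul_self (A.sign k)
  rw [e]
  exact memR_mul hM (memR_neg (memR_mul hM (memR_natCast hM a)
    (memR_of_isIntegral hM (isIntegral_sign (A.sign k)))))
    (memR_natCast_inv hM fun h => (Nat.not_even_iff_odd.2 H.hm) (even_iff_two_dvd.2 h))

/-- The odd elements commuting with `y`, as a subgroup. -/
theorem exists_fixed_subgroup (H : CentHyp C) : ∃ K : Subgroup C,
    (∀ v, v ∈ K ↔ H.p2 v = 1 ∧ Commute H.y v) ∧ Odd (Nat.card K) := by
  obtain ⟨f, hf⟩ := H.exists_hom_p2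
  refine ⟨f.ker.map (Subgroup.subtype _), fun v => ⟨?_, fun hv => ?_⟩, ?_⟩
  · rintro ⟨w, hw, rfl⟩
    exact ⟨(hf w).symm.trans hw, (mem_centralizer_singleton_iff.1 w.2 : Commute (w : C) H.y).symm⟩
  · exact ⟨⟨v, mem_centralizer_singleton_iff.2 hv.2.symm.eq⟩, (hf _).trans hv.1, rfl⟩
  · rw [← Nat.not_even_iff_odd, even_iff_two_dvd]
    intro h
    haveI : Fact (Nat.Prime 2) := ⟨Nat.prime_two⟩
    obtain ⟨⟨x, hx⟩, hx2⟩ := exists_prime_orderOf_dvd_card' 2 h
    rw [Subgroup.orderOf_mk] at hx2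
    obtain ⟨w, hw, rfl⟩ := hx
    have h1 : H.p2 (w : C) = 1 := (hf w).symm.trans hw
    rw [show ((Subgroup.subtype _) w) = (w : C) from rfl, ] at hx2
    rw [H.uniq _ hx2, H.p2_eq_self H.z8] at h1
    exact H.z_ne_one h1

theorem value_mul (k : Fin 3) {v : C} (hv : H.p2 v = 1) (hcv : Commute H.y v) :
    A.α k (H.y * v) = A.α k H.y := by
  classical
  haveI : Fact (Nat.Prime 2) := ⟨Nat.prime_two⟩
  obtain ⟨M, hM⟩ := CentralChar.exists_pModular 2
  obtain ⟨n, ρ, hn, hρR, htr, hop⟩ := exists_realisation hM (A.irr k)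
  obtain ⟨K, hK, hKodd⟩ := exists_fixed_subgroup H
  set Z := ρ H.y with hZdef
  have hρz : ρ H.z = 1 := by
    have hf : IsClassFunction C (fun g => if g = H.z then (1 : ℂ) else 0) := fun g h => by
      refine if_congr ⟨fun e => ?_, fun e => by rw [e, H.conj_z]⟩ rfl rfl
      rw [← H.conj_z h⁻¹, ← e]; group
    have := hop _ hf
    rw [omega_eq_sum] at this
    simpa [ite_smul, ite_mul, show A.α k H.z = A.α k 1 by rw [← A.z_mul k 1, mul_one],
      Char.IsIrrCharacter.apply_one_ne_zero (A.irr k)] using this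
  have hZ : Z * Z = 1 := by rw [hZdef, ← map_mul, H.hy, hρz]
  have hyinv : ρ H.y⁻¹ = Z := by
    rw [← mul_one (ρ H.y⁻¹), ← hZ, ← mul_assoc, hZdef, ← map_mul, inv_mul_cancel, map_one, one_mul]
  set P0 : Matrix (Fin n) (Fin n) ℂ := (Nat.card K : ℂ)⁻¹ • ∑ u : K, ρ u with hP0
  have hKc : (Nat.card K : ℂ) ≠ 0 := Nat.cast_ne_zero.2 Nat.card_pos.ne'
  have hlK : ∀ u : K, ρ u * ∑ w : K, ρ w = ∑ w : K, ρ w := fun u => by
    rw [Finset.mul_sum]
    exact Fintype.sum_equiv (Equiv.mulLeft u) _ _ fun w => by simp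
  have hrK : ∀ u : K, (∑ w : K, ρ w) * ρ u = ∑ w : K, ρ w := fun u => by
    rw [Finset.sum_mul]
    exact Fintype.sum_equiv (Equiv.mulRight u) _ _ fun w => by simp
  have hl0 : ∀ u : K, ρ u * P0 = P0 := fun u => by rw [hP0, mul_smul_comm, hlK]
  have hr0 : ∀ u : K, P0 * ρ u = P0 := fun u => by rw [hP0, smul_mul_assoc, hrK]
  have h00 : P0 * P0 = P0 := by
    conv_lhs => rw [hP0]
    rw [smul_mul_assoc, Finset.sum_mul]
    simp only [← hP0, hl0]
    rw [Finset.sum_const, Finset.card_univ, ← Nat.card_eq_fintype_card, ← Nat.cast_smul_eq_nsmul ℂ,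
      smul_smul, inv_mul_cancel₀ hKc, one_smul]
  have hZ0 : Z * P0 = P0 * Z := by
    rw [hP0, mul_smul_comm, smul_mul_assoc, Finset.mul_sum, Finset.sum_mul]
    congr 1
    refine Finset.sum_congr rfl fun u _ => ?_
    rw [hZdef, ← map_mul, ← map_mul, ((hK u).1 u.2).2.eq]
  have hvK : v ∈ K := (hK v).2 ⟨hv, hcv⟩
  set V := ρ v with hV
  have hV0 : V * P0 = P0 := hl0 ⟨v, hvK⟩
  have h0V : P0 * V = P0 := hr0 ⟨v, hvK⟩
  have hVm : V ^ H.m = 1 := by
    rw [hV, ← map_pow]
    have h := H.p'_pow_m v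
    have e := H.p2_mul_p' v
    rw [hv, one_mul] at e
    rw [e] at h; rw [h, map_one]
  have hZV : Z * V = V * Z := by rw [hZdef, hV, ← map_mul, ← map_mul, hcv.eq]
  set ζ : ℂ := Complex.exp (2 * Real.pi * Complex.I / H.m)
  have hζ : IsPrimitiveRoot ζ H.m := Complex.isPrimitiveRoot_exp _ H.m_ne_zero
  have hζ1 : ∀ j : ℕ, (ζ ^ j) ^ H.m = 1 := fun j => by
    rw [← pow_mul, mul_comm, pow_mul, hζ.pow_eq_one, one_pow]
  let E : ℕ → Matrix (Fin n) (Fin n) ℂ := fun j =>
    (H.m : ℂ)⁻¹ • ∑ i ∈ Finset.range H.m, (ζ ^ j • V) ^ i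
  have hmc : (H.m : ℂ) ≠ 0 := Nat.cast_ne_zero.2 H.m_ne_zero
  have hE : ∀ j, E j * E j = E j := fun j => by
    set W := ζ ^ j • V
    set S := ∑ i ∈ Finset.range H.m, W ^ i
    have hWm : W ^ H.m = 1 := by rw [smul_pow, hζ1, hVm, one_smul]
    have h1 : W * S = S := by
      have h := mul_geom_sum W H.m
      rw [hWm, sub_self, sub_mul, one_mul] at h
      exact sub_eq_zero.1 h
    have h2 : ∀ i : ℕ, W ^ i * S = S := fun i => by
      induction i with
      | zero => simp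
      | succ i ih => rw [pow_succ, mul_assoc, h1, ih]
    show ((H.m : ℂ)⁻¹ • S) * ((H.m : ℂ)⁻¹ • S) = (H.m : ℂ)⁻¹ • S
    rw [smul_mul_assoc, mul_smul_comm, Finset.sum_mul, Finset.sum_congr rfl fun i _ => h2 i,
      Finset.sum_const, Finset.card_range, ← Nat.cast_smul_eq_nsmul ℂ, smul_smul ((H.m : ℂ)⁻¹) (H.m : ℂ),
      inv_mul_cancel₀ hmc, one_smul]
  have hcomm : ∀ (X : Matrix (Fin n) (Fin n) ℂ) j, Commute X V → Commute X (E j) := fun X j h =>
    (Commute.sum_right _ _ _ fun i _ => (h.smul_right _).pow_right i).smul_right _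
  have hR0 : ∀ i j, MemLocalRing M (P0 i j) := fun i j => by
    rw [hP0, Matrix.smul_apply, Matrix.sum_apply, smul_eq_mul]
    exact memR_mul hM (memR_natCast_inv hM fun h => (Nat.not_even_iff_odd.2 hKodd)
      (even_iff_two_dvd.2 h)) (memR_sum hM _ fun u _ => hρR _ _ _)
  have hζR : ∀ j, MemLocalRing M (ζ ^ j) := fun j =>
    memR_of_isIntegral hM (IsIntegral.of_pow (Nat.pos_of_ne_zero H.m_ne_zero)
      (by rw [hζ1]; exact isIntegral_one))
  have hmR : MemLocalRing M (H.m : ℂ)⁻¹ :=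
    memR_natCast_inv hM fun h => (Nat.not_even_iff_odd.2 H.hm) (even_iff_two_dvd.2 h)
  have hER : ∀ j i l, MemLocalRing M (E j i l) := fun j i l => by
    show MemLocalRing M (((H.m : ℂ)⁻¹ • ∑ t ∈ Finset.range H.m, (ζ ^ j • V) ^ t) i l)
    rw [Matrix.smul_apply, Matrix.sum_apply, smul_eq_mul]
    refine memR_mul hM hmR (memR_sum hM _ fun t _ => ?_)
    rw [smul_pow, Matrix.smul_apply, smul_eq_mul, hV, ← map_pow]
    exact memR_mul hM (memR_pow hM (hζR j) t) (hρR _ _ _)
  -- the sum over odd elements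
  let O : Finset C := Finset.univ.filter fun g => H.p2 g = 1
  have hsumO : ∑ g ∈ O, ρ g = omega (A.α k) H.iO • (1 : Matrix (Fin n) (Fin n) ℂ) := by
    rw [← hop _ H.isClassFunction_iO, Finset.sum_filter]
    exact Finset.sum_congr rfl fun g _ => by simp [CentHyp.iO, ite_smul]
  obtain ⟨R, -, hsplit⟩ := sum_split_involutive (β := Matrix (Fin n) (Fin n) ℂ) O
    (fun g => H.y * g * H.y⁻¹)
    (fun g hg => by
      simp only [O, Finset.mem_filter, Finset.mem_univ, true_and] at hg ⊢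
      rw [H.p2_conj, hg, mul_one, mul_inv_cancel])
    (fun g _ => by
      show H.y * (H.y * g * H.y⁻¹) * H.y⁻¹ = g
      calc H.y * (H.y * g * H.y⁻¹) * H.y⁻¹ = (H.y * H.y) * g * (H.y * H.y)⁻¹ := by group
        _ = g := by rw [H.hy, (H.commute_z g).symm.eq, mul_inv_cancel_right])
  have hfix : ∑ g ∈ O with H.y * g * H.y⁻¹ = g, ρ g = (Nat.card K : ℂ) • P0 := by
    rw [hP0, smul_smul, mul_inv_cancel₀ hKc, one_smul]
    refine Finset.sum_subtype _ (fun g => ?_) _
    simp only [O, Finset.mem_filter, Finset.mem_univ, true_and, hK, mul_inv_eq_iff_eq_mul]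
    rfl
  have key : ∀ j, (Z * ((1 - P0) * E j)).trace = 0 := fun j => by
    have c1 : (1 - P0) * E j = E j * (1 - P0) :=
      (hcomm (1 - P0) j (show Commute (1 - P0) V by
        show (1 - P0) * V = V * (1 - P0); rw [sub_mul, mul_sub, one_mul, mul_one, h0V, hV0])).eq
    have c2 : Z * E j = E j * Z := (hcomm Z j hZV).eq
    have c3 : Z * (1 - P0) = (1 - P0) * Z := by rw [mul_sub, sub_mul, mul_one, one_mul, hZ0]
    have h11 : (1 - P0) * (1 - P0) = 1 - P0 := by
      rw [sub_mul, one_mul, mul_sub, mul_one, h00, sub_self, sub_zero]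
    obtain ⟨P, hP⟩ : ∃ P, P = (1 - P0) * E j := ⟨_, rfl⟩
    rw [← hP]
    have hPP : P * P = P := by
      calc P * P = (1 - P0) * (E j * (1 - P0)) * E j := by simp only [hP, mul_assoc]
        _ = ((1 - P0) * (1 - P0)) * (E j * E j) := by rw [← c1]; simp only [mul_assoc]
        _ = P := by rw [h11, hE, hP]
    have hZP : Z * P = P * Z := by
      rw [hP, ← mul_assoc, c3, mul_assoc, c2, mul_assoc]
    have hP0z : P * P0 * P = 0 := by
      rw [show P * P0 = 0 by rw [hP, c1, mul_assoc, sub_mul, one_mul, h00, sub_self, mul_zero], zero_mul]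
    refine trace_mul_eq_zero hM rfl Z P (∑ g ∈ R, ρ g) (omega (A.α k) H.iO) (hρR H.y)
      (fun i l => by
        rw [hP, Matrix.mul_apply]
        refine memR_sum hM _ fun t _ => memR_mul hM ?_ (hER j t l)
        rw [Matrix.sub_apply, Matrix.one_apply]
        refine memR_sub hM ?_ (hR0 i t)
        split_ifs
        · exact memR_one hM
        · exact memR_zero hM)
      (fun i l => by rw [Matrix.sum_apply]; exact memR_sum hM _ fun g _ => hρR g i l)
      hZ hPP hZP (A.omega_unit hM k).1 (A.omega_unit hM k).2 ?_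
    have h1 : ∑ g ∈ R, ρ (H.y * g * H.y⁻¹) = Z * (∑ g ∈ R, ρ g) * Z := by
      rw [Finset.mul_sum, Finset.sum_mul]
      exact Finset.sum_congr rfl fun g _ => by rw [map_mul, map_mul, hyinv]
    have h2 := hsplit (fun g => ρ g)
    rw [hsumO, hfix, h1] at h2
    calc omega (A.α k) H.iO • P
        = P * (omega (A.α k) H.iO • (1 : Matrix (Fin n) (Fin n) ℂ)) * P := by
          rw [mul_smul_comm, mul_one, smul_mul_assoc, hPP]
      _ = (Nat.card K : ℂ) • (P * P0 * P) + P * (∑ g ∈ R, ρ g + Z * (∑ g ∈ R, ρ g) * Z) * P := by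
          rw [h2, mul_add, add_mul, mul_smul_comm, smul_mul_assoc]
      _ = _ := by rw [hP0z, smul_zero, zero_add]
  have hsum : ∑ j ∈ Finset.range H.m, (ζ ^ j)⁻¹ • E j = V := by
    have h1 : ∀ i ∈ Finset.range H.m, ∑ j ∈ Finset.range H.m, (ζ ^ j)⁻¹ * (ζ ^ j) ^ i =
        if i = 1 % H.m then (H.m : ℂ) else 0 := fun i hi => by
      have hne : ζ ≠ 0 := hζ.ne_zero H.m_ne_zero
      have e : ∀ j : ℕ, (ζ ^ j)⁻¹ * (ζ ^ j) ^ i = (ζ⁻¹ * ζ ^ i) ^ j := fun j => by
        rw [mul_pow, inv_pow, ← pow_mul, ← pow_mul, mul_comm i j]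
      simp only [e]
      have hw : (ζ⁻¹ * ζ ^ i) ^ H.m = 1 := by
        rw [mul_pow, inv_pow, hζ.pow_eq_one, hζ1 i, inv_one, one_mul]
      have hmod : ζ = ζ ^ (1 % H.m) := by
        conv_lhs => rw [← pow_one ζ]
        exact pow_eq_pow_mod 1 hζ.pow_eq_one
      split_ifs with hi1
      · have : ζ⁻¹ * ζ ^ i = 1 := by rw [hi1, ← hmod, inv_mul_cancel₀ hne]
        simp [this]
      · have hne1 : ζ⁻¹ * ζ ^ i ≠ 1 := fun h => hi1 (hζ.pow_inj (Finset.mem_range.1 hi)
          (Nat.mod_lt _ (Nat.pos_of_ne_zero H.m_ne_zero)) (by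
            rw [← hmod]; exact ((inv_mul_eq_one₀ hne).1 h).symm))
        rw [geom_sum_eq hne1, hw, sub_self, zero_div]
    simp only [E, smul_pow, Finset.smul_sum, smul_smul]
    rw [Finset.sum_comm]
    calc ∑ i ∈ Finset.range H.m, ∑ j ∈ Finset.range H.m,
          ((ζ ^ j)⁻¹ * ((H.m : ℂ)⁻¹ * (ζ ^ j) ^ i)) • V ^ i
        = ∑ i ∈ Finset.range H.m, (if i = 1 % H.m then (1 : ℂ) else 0) • V ^ i := by
          refine Finset.sum_congr rfl fun i hi => ?_
          rw [← Finset.sum_smul]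
          congr 1
          have e : ∀ j, (ζ ^ j)⁻¹ * ((H.m : ℂ)⁻¹ * (ζ ^ j) ^ i) =
              (H.m : ℂ)⁻¹ * ((ζ ^ j)⁻¹ * (ζ ^ j) ^ i) := fun j => by ring
          simp only [e, ← Finset.mul_sum, h1 i hi]
          split_ifs <;> simp [hmc]
      _ = V ^ (1 % H.m) := by
          simp [ite_smul, Finset.mem_range, Nat.mod_lt _ (Nat.pos_of_ne_zero H.m_ne_zero)]
      _ = V := by
          conv_rhs => rw [← pow_one V]
          exact (pow_eq_pow_mod 1 hVm).symm
  have h3 : (Z * ((1 - P0) * V)).trace = 0 := by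
    rw [← hsum, Finset.mul_sum, Finset.mul_sum, Matrix.trace_sum]
    refine Finset.sum_eq_zero fun j _ => ?_
    rw [mul_smul_comm, mul_smul_comm, Matrix.trace_smul, key, smul_zero]
  rw [sub_mul, one_mul, h0V, mul_sub, Matrix.trace_sub, sub_eq_zero] at h3
  have h4 : (Z * (1 - P0)).trace = 0 := by
    have hsum1 : ∑ j ∈ Finset.range H.m, E j = 1 := by
      simp only [E, smul_pow, Finset.smul_sum, smul_smul]
      rw [Finset.sum_comm, Finset.sum_eq_single 0]
      · simp only [pow_zero, mul_one, Finset.sum_const, Finset.card_range]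
        rw [← Nat.cast_smul_eq_nsmul ℂ, smul_smul, mul_inv_cancel₀ hmc, one_smul]
      · intro i hi hi0
        rw [← Finset.sum_smul, ← Finset.mul_sum]
        simp only [← pow_mul, mul_comm _ i]
        simp only [pow_mul]
        rw [geom_sum_eq (fun h => hi0 (Nat.eq_zero_of_dvd_of_lt (hζ.dvd_of_pow_eq_one _ h)
          (Finset.mem_range.1 hi))), hζ1 i, sub_self, zero_div, mul_zero, zero_smul]
      · simp [H.m_ne_zero]
    have e : Z * (1 - P0) = ∑ j ∈ Finset.range H.m, Z * ((1 - P0) * E j) := by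
      rw [← Finset.mul_sum, ← Finset.mul_sum, hsum1, mul_one]
    rw [e, Matrix.trace_sum]
    exact Finset.sum_eq_zero fun j _ => key j
  rw [mul_sub, mul_one, Matrix.trace_sub, sub_eq_zero] at h4
  have hfin : (ρ (H.y * v)).trace = (ρ H.y).trace := by rw [map_mul]; exact h3.trans h4.symm
  rw [htr, htr] at hfin
  exact mul_left_cancel₀ (div_ne_zero (Nat.cast_ne_zero.2 hn.ne')
    (Char.IsIrrCharacter.apply_one_ne_zero (A.irr k))) hfin

theorem value_Y (k : Fin 3) {g : C} (hg : orderOf (H.p2 g) = 4) : A.α k g = A.δ k := by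
  have hval : ∀ {g : C}, orderOf (H.p2 g) = 4 → A.α k g = A.α k H.y := fun {g} hg => by
    obtain ⟨c, v, hv, hcv, he⟩ := H.orderOf_four_conj hg
    rw [← A.isClassFunction k g c, he]
    exact A.value_mul k (H.p2_eq_one hv) hcv
  rw [hval hg]
  have h := A.sum_iY k
  have e : ∀ g, H.iY g * A.α k g = H.iY g * A.α k H.y := fun g => by
    rcases H.values g with h | h | h
    · rw [h.2.2.2]; ring
    · rw [h.2.2.2]; ring
    · rw [hval h.1]
  simp only [e, ← Finset.sum_mul, H.sum_iY] at h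
  exact mul_left_cancel₀ (mul_ne_zero two_ne_zero (Nat.cast_ne_zero.2 H.m_ne_zero)) h

end AlphaData

end Cfsg.Agent.BrauerSuzuki
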