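/-
Integer coefficient vectors with the inner products of `D` and `F 0, F 1, F 2`.

* `two_of_sum_sq`
* `shape` : some `F k` is `1 + u - w` with `u` a constituent of `D` and `w` not, both apart from the other `F l`
-/
import Cfsg.Agent.Lib.BrauerSuzuki.Inflated

set_option autoImplicit false

namespace Cfsg.Agent.BrauerSuzuki

theorem two_of_sum_sq {ι : Type*} [Fintype ι] (c : ι → ℤ) (h : ∑ i, c i ^ 2 = 2) :
    ∃ u w : ι, u ≠ w ∧ (c u = 1 ∨ c u = -1) ∧ (c w = 1 ∨ c w = -1) ∧
      ∀ i, i ≠ u → i ≠ w → c i = 0 := by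
  classical
  have hone : ∀ i, c i = 0 ∨ c i = 1 ∨ c i = -1 := fun i => by
    have h1 : c i ^ 2 ≤ 2 :=
      h ▸ Finset.single_le_sum (f := fun i => c i ^ 2) (fun _ _ => sq_nonneg _) (Finset.mem_univ i)
    have h2 : -1 ≤ c i ∧ c i ≤ 1 := by constructor <;> nlinarith
    omega
  have hc : (Finset.univ.filter fun i => c i ≠ 0).card = 2 := by
    have : ∑ i, c i ^ 2 = ∑ i, if c i ≠ 0 then 1 else 0 :=
      Finset.sum_congr rfl fun i _ => by rcases hone i with e | e | e <;> simp [e]
    rw [this, Finset.sum_boole] at h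
    exact_mod_cast h
  obtain ⟨u, w, huw, hset⟩ := Finset.card_eq_two.1 hc
  have hne : ∀ i, c i ≠ 0 ↔ i = u ∨ i = w := fun i => by
    rw [← (show i ∈ (Finset.univ.filter fun i => c i ≠ 0) ↔ c i ≠ 0 by simp), hset]
    simp
  refine ⟨u, w, huw, (hone u).resolve_left ((hne u).2 (Or.inl rfl)),
    (hone w).resolve_left ((hne w).2 (Or.inr rfl)), fun i h1 h2 => ?_⟩
  by_contra h0
  exact ((hne i).1 h0).elim h1 h2

theorem shape {ι : Type*} [Fintype ι] (c₀ : ι → ℤ) (c : Fin 3 → ι → ℤ) (d : ι → ℕ)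
    (hd : ∀ i, 0 < d i) (h0 : ∑ i, c₀ i ^ 2 = 3) (h2 : ∀ k, ∑ i, c k i ^ 2 = 2)
    (h01 : ∀ k, ∑ i, c₀ i * c k i = 1) (hkl : ∀ k l, k ≠ l → ∑ i, c k i * c l i = 0)
    (hd0 : ∑ i, c₀ i * d i = -1) (hdk : ∀ k, ∑ i, c k i * d i = -1) :
    ∃ k u w, u ≠ w ∧ c₀ u = 1 ∧ c₀ w = 0 ∧ c k u = 1 ∧ c k w = -1 ∧ d w = d u + 1 ∧
      (∀ i, i ≠ u → i ≠ w → c k i = 0) ∧ ∀ l, l ≠ k → c l u = 0 ∧ c l w = 0 := by
  classical
  obtain ⟨f, hf, hfs, hf0⟩ := three_of_sum_sq c₀ h0
  have hc₀ : ∀ i, c₀ i = 0 ∨ c₀ i = 1 ∨ c₀ i = -1 := fun i => by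
    by_cases h : ∃ j, f j = i
    · obtain ⟨j, rfl⟩ := h; exact Or.inr (hfs j)
    · push Not at h; exact Or.inl (hf0 i h)
  have hsum : ∀ k (F : ι → ℤ) u w, u ≠ w → (∀ i, i ≠ u → i ≠ w → c k i = 0) →
      ∑ i, F i * c k i = F u * c k u + F w * c k w := fun k F u w huw hz => by
    rw [← Finset.sum_pair (f := fun i => F i * c k i) huw]
    refine (Finset.sum_subset (Finset.subset_univ _) fun i _ hi => ?_).symm
    simp only [Finset.mem_insert, Finset.mem_singleton, not_or] at hi
    rw [hz i hi.1 hi.2, mul_zero]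
  have hk : ∀ k, ∃ u w, u ≠ w ∧ (c₀ u = 1 ∨ c₀ u = -1) ∧ c k u = c₀ u ∧ c₀ w = 0 ∧
      (c k w = 1 ∨ c k w = -1) ∧ ∀ i, i ≠ u → i ≠ w → c k i = 0 := fun k => by
    obtain ⟨u, w, huw, hu, hw, hz⟩ := two_of_sum_sq (c k) (h2 k)
    have h := h01 k
    rw [hsum k c₀ u w huw hz] at h
    by_cases hw0 : c₀ w = 0
    · refine ⟨u, w, huw, ?_, ?_, hw0, hw, hz⟩ <;>
        rcases hc₀ u with e | e | e <;> rcases hu with e' | e' <;> simp [e, e', hw0] at h ⊢
    · have hu0 : c₀ u = 0 := by
        by_contra hu0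
        rcases (hc₀ u).resolve_left hu0 with e | e <;> rcases hu with e' | e' <;>
          rcases (hc₀ w).resolve_left hw0 with f | f <;> rcases hw with f' | f' <;>
          simp [e, e', f, f'] at h
      refine ⟨w, u, huw.symm, (hc₀ w).resolve_left hw0, ?_, hu0, hu, fun i a b => hz i b a⟩
      rcases (hc₀ w).resolve_left hw0 with e | e <;> rcases hw with e' | e' <;>
        simp [e, e', hu0] at h ⊢
  choose u w huw hu hcu hw hcw hz using hk
  have hdeg : ∀ k, c k (u k) * d (u k) + c k (w k) * d (w k) = -1 := fun k => by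
    have h := hdk k
    rw [Finset.sum_congr rfl fun i _ => mul_comm (c k i) (d i : ℤ),
      hsum k (fun i => (d i : ℤ)) _ _ (huw k) (hz k)] at h
    linarith
  have hdis : ∀ k l, k ≠ l → u k ≠ u l ∧ w k ≠ w l := fun k l hne => by
    have h := hkl l k hne.symm
    rw [hsum k (c l) _ _ (huw k) (hz k)] at h
    by_cases hU : u k = u l
    · exfalso
      have e1 : c l (u k) * c k (u k) = 1 := by
        rw [hU, hcu l, ← hU, hcu k]; rcases hu k with e | e <;> simp [e]
      rw [e1] at h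
      have hwe : w k = w l := by
        by_contra hW
        rw [hz l (w k) (by rw [← hU]; exact (huw k).symm) hW, zero_mul, add_zero] at h
        exact one_ne_zero h
      have d1 := hdeg k
      have d2 := hdeg l
      rw [← hU, ← hwe] at d2
      have hcl : c l (u k) = c k (u k) := by rw [hU, hcu l, ← hU, hcu k]
      have hcw' : c l (w k) = - c k (w k) := by
        have hl : c l (w k) = 1 ∨ c l (w k) = -1 := by rw [hwe]; exact hcw l
        rcases hl with e | e <;> rcases hcw k with e' | e' <;> simp [e, e'] at h ⊢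
      rw [hcl, hcw'] at d2
      have := hd (u k)
      have := hd (w k)
      have huk : c k (u k) = 1 ∨ c k (u k) = -1 := by rw [hcu k]; exact hu k
      rcases huk with e | e <;> rcases hcw k with e' | e' <;>
        simp only [e, e', one_mul, neg_mul, neg_neg] at d1 d2 <;> omega
    · refine ⟨hU, fun hW => ?_⟩
      have hne' : u k ≠ w l := fun e => by
        have := hu k; rw [e, hw l] at this; omega
      rw [hz l (u k) hU hne', zero_mul, zero_add, hW] at h
      rcases hcw l with e | e <;> rcases hcw k with e' | e' <;> rw [hW] at e' <;> simp [e, e'] at h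
  have hmem : ∀ k, ∃ j, f j = u k := fun k => by
    by_contra hne
    push Not at hne
    have := hu k
    rw [hf0 _ hne] at this
    omega
  choose g hg using hmem
  have hg' : Function.Injective g := fun k l e => by
    by_contra hne
    exact (hdis k l hne).1 ((hg k).symm.trans ((congrArg f e).trans (hg l)))
  obtain ⟨k, hk1⟩ : ∃ k, c₀ (u k) = 1 := by
    by_contra hall
    push Not at hall
    have hneg : ∀ j, c₀ (f j) = -1 := fun j => by
      obtain ⟨k, rfl⟩ := (Finite.injective_iff_surjective.1 hg') j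
      rw [hg k]
      exact (hu k).resolve_left (hall k)
    have h : ∑ i, c₀ i * d i = ∑ j, c₀ (f j) * d (f j) := by
      rw [← Finset.sum_image (g := f) (f := fun i => c₀ i * (d i : ℤ)) fun a _ b _ h => hf h]
      refine (Finset.sum_subset (Finset.subset_univ _) fun i _ hi => ?_).symm
      rw [hf0 i fun j e => hi (Finset.mem_image.2 ⟨j, Finset.mem_univ _, e⟩), zero_mul]
    rw [hd0, Fin.sum_univ_three] at h
    simp only [hneg, neg_one_mul] at h
    have := hd (f 0); have := hd (f 1); have := hd (f 2)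
    omega
  have hku : c k (u k) = 1 := (hcu k).trans hk1
  have hd' := hdeg k
  rw [hku] at hd'
  have hkw : c k (w k) = -1 := by
    rcases hcw k with e | e
    · rw [e] at hd'; have := hd (u k); have := hd (w k); omega
    · exact e
  refine ⟨k, u k, w k, huw k, hk1, hw k, hku, hkw, ?_, hz k, fun l hl => ?_⟩
  · rw [hkw] at hd'; omega
  · refine ⟨hz l _ (hdis l k hl).1.symm fun e => ?_, hz l _ (fun e => ?_) (hdis l k hl).2.symm⟩
    · rw [e] at hk1; rw [hw l] at hk1; omega
    · have := hu l; rw [← e, hw k] at this; omega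

end Cfsg.Agent.BrauerSuzuki
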