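/-
Integrality of the faithful class functions on the centraliser, by Brauer's characterisation.

* `AlphaData.psi`, `CentHyp.eta`, `AlphaData.s`
* `elementary_pow_hom` : 2-part and odd part are homomorphisms on elementary subgroups
* `AlphaData.isGeneralizedCharacter_s`
-/
import Cfsg.Agent.Lib.BrauerSuzuki.Inflated
import Cfsg.Agent.Lib.Char.Brauer
import Cfsg.Agent.Lib.Char.Linear
import Cfsg.Agent.Lib.Transfer.Residual

set_option autoImplicit false

open scoped ComplexConjugate
open Subgroup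

namespace Cfsg.Agent.BrauerSuzuki

open Cfsg Cfsg.Agent.Blocks

/-- A central involution acts by a sign in an irreducible character. -/
theorem central_sign {A : Type*} [Group A] [Fintype A] {w : A} (hc : ∀ g, g * w = w * g)
    (hw : w * w = 1) {θ : A → ℂ} (hθ : IsIrrCharacter A θ) : θ w = θ 1 ∨ θ w = -θ 1 := by
  classical
  let f : A → ℂ := fun g => if g = w then 1 else 0
  have hf : IsClassFunction A f := fun g h => by
    refine if_congr ⟨fun e => ?_, fun e => by rw [e, hc, mul_inv_cancel_right]⟩ rfl rfl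
    calc g = h⁻¹ * (h * g * h⁻¹) * h := by group
      _ = h⁻¹ * (w * h) := by rw [e, mul_assoc]
      _ = w := by rw [← hc, inv_mul_cancel_left]
  have h : ∀ x, θ (w * x) = omega θ f * θ x := fun x => by
    have := sum_translate_eq hθ hf 1 x
    simpa [f] using this
  have hsq : omega θ f * omega θ f = 1 := by
    refine mul_right_cancel₀ (Char.IsIrrCharacter.apply_one_ne_zero hθ) ?_
    rw [mul_assoc, ← h 1, ← h (w * 1), ← mul_assoc, hw, one_mul, one_mul]
  have h1 := h 1
  rw [mul_one] at h1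
  rcases mul_self_eq_one_iff.1 hsq with e | e <;> rw [e] at h1
  · left; rw [h1, one_mul]
  · right; rw [h1, neg_one_mul]

variable {C : Type*} [Group C]

namespace CentHyp

variable (H : CentHyp C)

/-- `1` on `z` times odd, `-1` on odd, `0` on the section of `y`. -/
noncomputable def eta (g : C) : ℂ := H.iZ g - H.iO g

variable [Finite C]

theorem elementary_pow_hom {q : ℕ} (hq : q.Prime) (E : Subgroup C) (hE : IsElementary q E)
    {k : ℕ} (hk : (∀ a : C, a ^ 8 = 1 → a ^ k = a) ∧ (∀ a : C, a ^ H.m = 1 → a ^ k = 1) ∨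
      (∀ a : C, a ^ 8 = 1 → a ^ k = 1) ∧ (∀ a : C, a ^ H.m = 1 → a ^ k = a)) (g h : E) :
    ((g : C) * h) ^ k = (g : C) ^ k * (h : C) ^ k := by
  haveI : Fact q.Prime := ⟨hq⟩
  obtain ⟨x, hxc, hxq, j, hj⟩ := hE
  let P : Sylow q E := default
  have hcp : (zpowers x).IsComplement' (P : Subgroup E) :=
    Transfer.isComplement'_of_coprime_of_index P (by rwa [Nat.card_zpowers]) hj
  have hPpow : (∀ b ∈ (P : Subgroup E), (b : C) ^ 8 = 1) ∨ ∀ b ∈ (P : Subgroup E), (b : C) ^ H.m = 1 := by
    have hb : ∀ b ∈ (P : Subgroup E), ∃ i, orderOf (b : C) = q ^ i := fun b hb => by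
      obtain ⟨i, hi⟩ := IsPGroup.iff_orderOf.1 P.2 ⟨b, hb⟩
      exact ⟨i, by rw [Subgroup.orderOf_coe, ← hi, ← Subgroup.orderOf_coe ⟨b, hb⟩]⟩
    by_cases h2 : q = 2
    · left
      intro b hb'
      obtain ⟨i, hi⟩ := hb b hb'
      have hd : orderOf (b : C) ∣ 8 * H.m := H.card_eq ▸ orderOf_dvd_natCard _
      refine orderOf_dvd_iff_pow_eq_one.1 (Nat.Coprime.dvd_of_dvd_mul_right ?_ hd)
      rw [hi, h2]
      exact ((Nat.prime_two.coprime_iff_not_dvd).2
        fun h => (Nat.not_even_iff_odd.2 H.hm) (even_iff_two_dvd.2 h)).pow_left i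
    · right
      intro b hb'
      obtain ⟨i, hi⟩ := hb b hb'
      have hd : orderOf (b : C) ∣ 8 * H.m := H.card_eq ▸ orderOf_dvd_natCard _
      refine orderOf_dvd_iff_pow_eq_one.1 (Nat.Coprime.dvd_of_dvd_mul_left ?_ hd)
      rw [hi, show 8 = 2 ^ 3 from rfl]
      exact ((Nat.coprime_primes hq Nat.prime_two).2 h2).pow i 3
  have hPk : ∀ b ∈ (P : Subgroup E), ∀ b' ∈ (P : Subgroup E),
      ((b : C) * b') ^ k = (b : C) ^ k * (b' : C) ^ k := by
    intro b hb b' hb'
    have hbb := (P : Subgroup E).mul_mem hb hb'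
    rcases hPpow with hp | hp <;> rcases hk with ⟨k8, km⟩ | ⟨k8, km⟩
    · rw [k8 _ (hp b hb), k8 _ (hp b' hb')]; exact k8 _ (hp _ hbb)
    · rw [k8 _ (hp b hb), k8 _ (hp b' hb'), mul_one]; exact k8 _ (hp _ hbb)
    · rw [km _ (hp b hb), km _ (hp b' hb'), mul_one]; exact km _ (hp _ hbb)
    · rw [km _ (hp b hb), km _ (hp b' hb')]; exact km _ (hp _ hbb)
  obtain ⟨⟨⟨a, ha⟩, ⟨b, hb⟩⟩, rfl⟩ := hcp.2 g
  obtain ⟨⟨⟨a', ha'⟩, ⟨b', hb'⟩⟩, rfl⟩ := hcp.2 h
  have hcen : ∀ {u : E}, u ∈ zpowers x → ∀ w : E, Commute (u : C) (w : C) := fun {u} hu w => by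
    have := mem_center_iff.1 ((zpowers_le.2 hxc) hu) w
    exact (congrArg Subtype.val this).symm
  show (((a * b : E) : C) * ((a' * b' : E) : C)) ^ k = ((a * b : E) : C) ^ k * ((a' * b' : E) : C) ^ k
  push_cast
  have c1 : Commute (a : C) (b : C) := hcen ha b
  have c2 : Commute (a' : C) (b' : C) := hcen ha' b'
  have c3 : Commute (a' : C) (b : C) := hcen ha' b
  rw [c1.mul_pow, c2.mul_pow, mul_assoc (a : C), ← mul_assoc (b : C), ← c3.eq, mul_assoc (a' : C),
    ← mul_assoc (a : C)]
  have c4 : Commute ((a : C) * a') ((b : C) * b') :=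
    ((hcen ha b).mul_left (hcen ha' b)).mul_right ((hcen ha b').mul_left (hcen ha' b'))
  rw [c4.mul_pow, (hcen ha a').mul_pow, hPk b hb b' hb',
    mul_assoc ((a : C) ^ k), ← mul_assoc ((a' : C) ^ k), (c3.pow_pow k k).eq]
  simp only [mul_assoc]

theorem exists_p2_hom {q : ℕ} (hq : q.Prime) (E : Subgroup C) (hE : IsElementary q E) :
    ∃ f : E →* C, ∀ g : E, f g = H.p2 g :=
  ⟨⟨⟨fun g => H.p2 g, one_pow _⟩, fun g h => H.elementary_pow_hom hq E hE
    (Or.inl ⟨fun _ ha => H.p2_eq_self ha, fun _ ha => H.p2_eq_one ha⟩) g h⟩, fun _ => rfl⟩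

theorem exists_p'_hom {q : ℕ} (hq : q.Prime) (E : Subgroup C) (hE : IsElementary q E) :
    ∃ f : E →* C, ∀ g : E, f g = H.p' g :=
  ⟨⟨⟨fun g => H.p' g, one_pow _⟩, fun g h => H.elementary_pow_hom hq E hE
    (Or.inr ⟨fun _ ha => H.p'_eq_one ha, fun _ ha => H.p'_eq_self ha⟩) g h⟩, fun _ => rfl⟩

omit [Finite C] in
theorem p2_p' (g : C) : H.p2 (H.p' g) = 1 := H.p2_eq_one (H.p'_pow_m g)

/-- On a 2-subgroup containing an element of order four `2 • eta` is a generalized character. -/
theorem isGeneralizedCharacter_two_eta (P : Subgroup C) (hP : ∀ a ∈ P, a ^ 8 = 1) {w : C}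
    (hwP : w ∈ P) (hw : orderOf w = 4) :
    IsGeneralizedCharacter P (fun a : P => 2 * H.eta a) := by
  classical
  let : Fintype P := Fintype.ofFinite P
  have hcl : IsClassFunction P (fun a : P => 2 * H.eta a) := fun a b => by
    simp [eta, H.isClassFunction_iO (a : C) b, H.isClassFunction_iZ (a : C) b]
  refine Char.isGeneralizedCharacter_iff_classInner.2 ⟨hcl, fun φ => ?_⟩
  have hzP : H.z ∈ P := H.sq_eq_z hw ▸ P.mul_mem hwP hwP
  set zP : P := ⟨H.z, hzP⟩
  have hcard := Char.card_mul_classInner (fun a : P => 2 * H.eta a) (φ : P → ℂ)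
  have hsum : ∑ a : P, 2 * H.eta a * conj ((φ : P → ℂ) a) =
      2 * (conj ((φ : P → ℂ) zP) - conj ((φ : P → ℂ) 1)) := by
    have hv : ∀ a : P, H.eta a = (if a = zP then 1 else 0) - (if a = 1 then 1 else 0) := fun a => by
      simp only [eta, iO, iZ, H.p2_eq_self (hP a a.2)]
      congr 1
      · exact if_congr (by rw [← Subtype.coe_inj]) rfl rfl
      · exact if_congr (by rw [← Subtype.coe_inj]; rfl) rfl rfl
    simp only [hv, mul_sub, sub_mul, Finset.sum_sub_distrib]
    simp
  rw [hsum] at hcard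
  obtain ⟨d, hd, hd1⟩ := Char.IsIrrCharacter.exists_degree φ.2
  have hcP : (Nat.card P : ℂ) ≠ 0 := Nat.cast_ne_zero.2 Nat.card_pos.ne'
  rcases central_sign (w := zP) (fun a => Subtype.ext (H.central a)) (Subtype.ext H.zz) φ.2 with e | e
  · refine ⟨0, ?_⟩
    rw [e, sub_self, mul_zero] at hcard
    rw [Int.cast_zero]
    exact (mul_eq_zero.1 hcard).resolve_left hcP
  have h4 : 4 ∣ Nat.card P := hw ▸ P.orderOf_dvd_natCard hwP
  have h8 : Nat.card P ∣ 8 := by
    haveI : Fact (Nat.Prime 2) := ⟨Nat.prime_two⟩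
    obtain ⟨i, hi⟩ := IsPGroup.iff_card.1 (show IsPGroup 2 P from fun a => ⟨3, Subtype.ext (hP a a.2)⟩)
    refine Nat.Coprime.dvd_of_dvd_mul_right ?_ (H.card_eq ▸ P.card_subgroup_dvd_card)
    rw [hi]
    exact ((Nat.prime_two.coprime_iff_not_dvd).2
      fun h => (Nat.not_even_iff_odd.2 H.hm) (even_iff_two_dvd.2 h)).pow_left i
  rw [e, hd1, map_neg, Complex.conj_natCast] at hcard
  have hP48 : Nat.card P = 4 ∨ Nat.card P = 8 := by
    obtain ⟨i, hi⟩ := h4
    have : Nat.card P ≤ 8 := Nat.le_of_dvd (by norm_num) h8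
    have : 0 < Nat.card P := Nat.card_pos
    rcases i with _ | _ | _ | i <;> omega
  rcases hP48 with hP4 | hP8
  · refine ⟨-(d : ℤ), ?_⟩
    rw [hP4] at hcard
    push_cast at hcard ⊢
    linear_combination hcard / 4
  have hdvd : d ∣ 8 := by
    obtain ⟨d', -, hd', hdd⟩ := Char.IsIrrCharacter.degree_dvd_card φ.2
    have : d = d' := by exact_mod_cast hd1.symm.trans hd'
    subst this
    rwa [hP8] at hdd
  have hne : d ≠ 1 := by
    intro h1
    rw [h1, Nat.cast_one] at hd1
    obtain ⟨l, hl⟩ := Char.exists_hom_of_degree_one (Char.IsIrrCharacter.isCharacter φ.2) hd1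
    set wP : P := ⟨w, hwP⟩
    have hidx : (zpowers wP).index = 2 := by
      have := (zpowers wP).card_mul_index
      rw [Nat.card_zpowers, Subgroup.orderOf_mk, hw, hP8] at this
      omega
    obtain ⟨t, ht⟩ : ∃ t : P, t * wP * t⁻¹ ≠ wP := by
      by_contra hall
      push Not at hall
      refine H.cy ?_
      obtain ⟨c, hc⟩ := isConj_iff.1 (H.conj4 w hw)
      have hle : P ≤ centralizer ({w} : Set C) := fun u hu => mem_centralizer_singleton_iff.2 (by
        have := hall ⟨u, hu⟩
        exact mul_inv_eq_iff_eq_mul.1 (congrArg Subtype.val this))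
      have heq : Nat.card (centralizer ({w} : Set C)) = Nat.card (centralizer ({H.y} : Set C)) := by
        rw [← card_transporter (s := H.y) (t := w) (H.conj4 w hw),
          ← card_transporter (s := w) (t := H.y) (H.conj4 w hw).symm]
        refine Nat.card_congr (Equiv.subtypeEquiv (Equiv.inv C) fun u => ?_)
        simp only [Equiv.inv_apply, inv_inv]
        constructor
        · rintro e; rw [← e]; group
        · rintro e; rw [← e]; group
      rw [← heq, ← hP8]
      exact Subgroup.card_dvd_of_le hle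
    have hn : (zpowers wP).Normal := normal_of_index_eq_two hidx
    have hmem := hn.conj_mem wP (mem_zpowers wP) t
    obtain ⟨i, hi⟩ := mem_zpowers_iff.1 hmem
    have hlw : l (t * wP * t⁻¹) = l wP := by
      rw [map_mul, map_mul, mul_right_comm, ← map_mul, mul_inv_cancel, map_one, one_mul]
    have hval : ((t * wP * t⁻¹ : P) : C) = H.z * w := by
      have hc : Commute (w) ((t * wP * t⁻¹ : P) : C) := by
        rw [← hi]; simpa [wP] using (Commute.refl w).zpow_right i
      have ho : orderOf ((t * wP * t⁻¹ : P) : C) = 4 := by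
        push_cast
        rw [show (t : C) * w * (t : C)⁻¹ = MulAut.conj (t : C) w from rfl, MulEquiv.orderOf_eq, hw]
      set u := ((t * wP * t⁻¹ : P) : C)
      have hb : (w * u) * (w * u) = 1 := by
        rw [mul_assoc, ← mul_assoc u, ← hc.eq, mul_assoc w, H.sq_eq_z ho, ← mul_assoc, H.sq_eq_z hw, H.zz]
      rcases H.cases (a := w * u) (by rw [show 8 = 2 * 4 from rfl, pow_mul, pow_two, hb, one_pow]) with
        e' | e' | e'
      · have hu : u = w⁻¹ := eq_inv_of_mul_eq_one_right e'
        rw [hu]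
        exact inv_eq_of_mul_eq_one_right (by rw [← mul_assoc, H.central, mul_assoc, H.sq_eq_z hw, H.zz])
      · exfalso
        refine ht (Subtype.ext ?_)
        show u = w
        exact mul_left_cancel (e'.trans (H.sq_eq_z hw).symm)
      · rw [← pow_two] at hb
        have := orderOf_dvd_of_pow_eq_one hb
        rw [e'] at this; norm_num at this
    have hval' : t * wP * t⁻¹ = zP * wP := Subtype.ext hval
    rw [hval', map_mul, mul_eq_right₀] at hlw
    · have : (φ : P → ℂ) zP = 1 := by rw [← hl]; exact hlw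
      rw [e, hd1] at this
      norm_num at this
    · intro h0
      have : l wP * l wP⁻¹ = 1 := by rw [← map_mul, mul_inv_cancel, map_one]
      rw [h0, zero_mul] at this
      exact zero_ne_one this
  obtain ⟨d', rfl⟩ : 2 ∣ d := by
    have hd8 : d ∈ ({1, 2, 4, 8} : Finset ℕ) := by
      have := Nat.mem_divisors.2 ⟨hdvd, by norm_num⟩
      simpa [show Nat.divisors 8 = {1, 2, 4, 8} by decide] using this
    simp only [Finset.mem_insert, Finset.mem_singleton] at hd8
    rcases hd8 with rfl | rfl | rfl | rfl <;> first | omega | norm_num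
  refine ⟨-(d' : ℤ), ?_⟩
  rw [hP8] at hcard
  push_cast at hcard ⊢
  linear_combination hcard / 8

end CentHyp

namespace AlphaData

variable [Fintype C] {H : CentHyp C} (A : AlphaData H)

/-- The class function `1 + δ α`. -/
noncomputable def psi (k : Fin 3) (g : C) : ℂ := 1 + A.δ k * A.α k g

/-- The class function `(1 + δ α) eta`. -/
noncomputable def s (k : Fin 3) (g : C) : ℂ := A.psi k g * H.eta g

theorem isClassFunction_psi (k : Fin 3) : IsClassFunction C (A.psi k) := fun g h => by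
  simp [psi, A.isClassFunction k g h]

theorem isClassFunction_s (k : Fin 3) : IsClassFunction C (A.s k) := fun g h => by
  simp [s, A.isClassFunction_psi k g h, CentHyp.eta, H.isClassFunction_iO g h, H.isClassFunction_iZ g h]

theorem psi_z_mul (k : Fin 3) (g : C) : A.psi k (H.z * g) = A.psi k g := by simp [psi, A.z_mul]

theorem isGeneralizedCharacter_psi (k : Fin 3) : IsGeneralizedCharacter C (A.psi k) := by
  have hα := Char.isGeneralizedCharacter_of_isCharacter (Char.IsIrrCharacter.isCharacter (A.irr k))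
  have h1 := Char.isGeneralizedCharacter_of_isCharacter (Char.isCharacter_one (G := C))
  rcases A.sign k with e | e
  · convert Char.IsGeneralizedCharacter.add h1 hα using 1
    funext g; simp [psi, e]
  · convert Char.IsGeneralizedCharacter.sub h1 hα using 1
    funext g; simp [psi, e]; ring

theorem psi_p' (k : Fin 3) {g : C} (h : H.p2 g = 1 ∨ H.p2 g = H.z) :
    A.psi k (H.p' g) = A.psi k g := by
  conv_rhs => rw [← H.p2_mul_p' g]
  rcases h with h | h <;> rw [h]
  · rw [one_mul]
  · rw [A.psi_z_mul]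

theorem restrict_s_of_four (k : Fin 3) {q : ℕ} (hq : q.Prime) (E : Subgroup C) (hE : IsElementary q E)
    {g₀ : E} (h₀ : orderOf (H.p2 g₀) = 4) : IsGeneralizedCharacter E (fun e : E => A.s k e) := by
  classical
  obtain ⟨f2, hf2⟩ := H.exists_p2_hom hq E hE
  obtain ⟨f', hf'⟩ := H.exists_p'_hom hq E hE
  let : Fintype E := Fintype.ofFinite E
  set w := H.p2 g₀
  have hcom : ∀ g : E, Commute w (H.p' g) := fun g => by
    have h1 : f2 (g₀ ^ H.e * g ^ H.e' * (g₀ ^ H.e)⁻¹ * (g ^ H.e')⁻¹) = 1 := by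
      have : f2 (g ^ H.e') = 1 := by
        rw [hf2, Subgroup.coe_pow]; exact H.p2_p' g
      rw [map_mul, map_mul, map_mul, map_inv, map_inv, this, inv_one, mul_one, mul_one, mul_inv_cancel]
    have h2 : f' (g₀ ^ H.e * g ^ H.e' * (g₀ ^ H.e)⁻¹ * (g ^ H.e')⁻¹) = 1 := by
      have : f' (g₀ ^ H.e) = 1 := by
        rw [hf', Subgroup.coe_pow]; exact H.p'_eq_one (H.p2_pow8 _)
      rw [map_mul, map_mul, map_mul, map_inv, map_inv, this, inv_one, one_mul, mul_one, mul_inv_cancel]
    rw [hf2] at h1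
    rw [hf'] at h2
    have h3 := H.p2_mul_p' ((g₀ ^ H.e * g ^ H.e' * (g₀ ^ H.e)⁻¹ * (g ^ H.e')⁻¹ : E) : C)
    rw [h1, h2, one_mul] at h3
    push_cast at h3
    exact mul_inv_eq_iff_eq_mul.1 (mul_inv_eq_one.1 h3.symm)
  let W := zpowers w
  let : Fintype W := Fintype.ofFinite W
  have hWc : Nat.card W = 4 := by rw [Nat.card_zpowers, h₀]
  have hW8 : ∀ a ∈ W, a ^ 8 = 1 := fun a ha => by
    rw [← orderOf_dvd_iff_pow_eq_one]
    have h4 := W.orderOf_dvd_natCard ha
    rw [hWc] at h4
    exact h4.trans (by norm_num)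
  let Φ : E × W →* C :=
    { toFun := fun x => f' x.1 * x.2
      map_one' := by simp
      map_mul' := fun x x' => by
        rw [Prod.fst_mul, Prod.snd_mul, map_mul, Subgroup.coe_mul]
        obtain ⟨i, hi⟩ := mem_zpowers_iff.1 x.2.2
        have : Commute (x.2 : C) (f' x'.1) := by rw [← hi, hf']; exact (hcom x'.1).zpow_left i
        rw [mul_assoc, ← mul_assoc (f' x'.1), ← this.eq]
        simp only [mul_assoc] }
  obtain ⟨l, hl⟩ := exists_sign_hom (A := W) H.zz H.z_ne_one
    { toFun := fun a => (a : C) * a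
      map_one' := by simp
      map_mul' := fun a b => by
        have hab : Commute (a : C) (b : C) := by
          obtain ⟨i, hi⟩ := mem_zpowers_iff.1 a.2
          obtain ⟨j, hj⟩ := mem_zpowers_iff.1 b.2
          rw [← hi, ← hj]; exact (Commute.refl w).zpow_zpow i j
        rw [Subgroup.coe_mul, mul_assoc, ← mul_assoc (b : C), ← hab.eq]
        simp only [mul_assoc] }
    (fun a => by
      show (a : C) * a = 1 ∨ (a : C) * a = H.z
      rw [← H.p2_eq_self (hW8 a a.2)]; exact H.p2_sq_cases _)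
  replace hl : ∀ a : W, l a = if (a : C) * a = 1 then 1 else -1 := hl
  have hlne : (⇑l : W → ℂ) ≠ 1 := fun h => by
    have := congrFun h ⟨w, mem_zpowers w⟩
    rw [hl, if_neg (by rw [H.sq_eq_z h₀]; exact H.z_ne_one)] at this
    norm_num at this
  set Γ : E → ℂ := fun g => (A.α k (H.p' g) - A.δ k) / 2
  have hΓ : IsGeneralizedCharacter E Γ := by
    refine Char.isGeneralizedCharacter_iff_classInner.2 ⟨fun g h => ?_, fun φ => ?_⟩
    · simp [Γ, H.p'_conj, A.isClassFunction k (H.p' (g : C)) h]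
    obtain ⟨j, hj⟩ := Char.IsCharacter.classInner_nat
      (Char.IsCharacter.comp_hom (Char.IsIrrCharacter.isCharacter (A.irr k)) Φ)
      (Char.IsCharacter.mul
        (Char.IsCharacter.comp_hom (Char.IsIrrCharacter.isCharacter φ.2) (MonoidHom.fst E W))
        (Char.IsCharacter.comp_hom (Char.isCharacter_of_hom l) (MonoidHom.snd E W)))
    refine ⟨j, ?_⟩
    rw [Int.cast_natCast, ← hj, classInner, classInner, Nat.card_prod, hWc, Fintype.sum_prod_type]
    push_cast
    rw [mul_inv, mul_assoc]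
    congr 1
    rw [Finset.mul_sum]
    refine Finset.sum_congr rfl fun g _ => ?_
    have hterm : ∀ a : W, A.α k (H.p' g * a) * conj ((φ : E → ℂ) g * l a) =
        ((A.α k (H.p' g) - A.δ k) / 2 + (A.α k (H.p' g) + A.δ k) / 2 * l a) * conj ((φ : E → ℂ) g) := by
      intro a
      have ha8 := hW8 a a.2
      have hc : Commute (a : C) (H.p' g) := by
        obtain ⟨i, hi⟩ := mem_zpowers_iff.1 a.2
        rw [← hi]; exact (hcom g).zpow_left i
      rw [map_mul, hl]
      rcases H.cases ha8 with e | e | e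
      · rw [e, if_pos (one_mul 1), mul_one, map_one]; ring
      · rw [e, if_pos H.zz, H.central, A.z_mul, map_one]; ring
      · rw [if_neg (by rw [H.sq_eq_z e]; exact H.z_ne_one), map_neg, map_one, ← hc.eq,
          A.value_Y k (by rw [(H.p2_mul ha8 (H.p'_pow_m _) hc).1]; exact e)]
        ring
    symm
    show (4 : ℂ)⁻¹ * ∑ a : W, A.α k (f' g * a) * conj ((φ : E → ℂ) g * l a) = Γ g * conj ((φ : E → ℂ) g)
    simp only [hf', hterm]
    rw [← Finset.sum_mul, Finset.sum_add_distrib, ← Finset.mul_sum,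
      sum_irr_eq_zero (Char.isIrrCharacter_of_hom l) hlne, Finset.sum_const, Finset.card_univ,
      ← Nat.card_eq_fintype_card, hWc, nsmul_eq_mul, mul_zero, add_zero]
    simp only [Γ]; push_cast; ring
  have heta : IsGeneralizedCharacter E (fun g : E => 2 * H.eta g) := by
    have hP : ∀ a ∈ f2.range, a ^ 8 = 1 := by
      rintro _ ⟨g, rfl⟩; rw [hf2]; exact H.p2_pow8 _
    have h := Char.IsGeneralizedCharacter.comp_hom
      (H.isGeneralizedCharacter_two_eta f2.range hP ⟨g₀, hf2 g₀⟩ h₀) f2.rangeRestrict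
    convert h using 1
    funext g
    have e : H.p2 (H.p2 (g : C)) = H.p2 g := H.p2_eq_self (H.p2_pow8 _)
    simp [CentHyp.eta, CentHyp.iO, CentHyp.iZ, hf2, e]
  have h1 := Char.isGeneralizedCharacter_of_isCharacter (Char.isCharacter_one (G := E))
  have hhalf : IsGeneralizedCharacter E (fun g : E => (1 + A.δ k * A.α k (H.p' g)) / 2) := by
    rcases A.sign k with e | e
    · convert Char.IsGeneralizedCharacter.add h1 hΓ using 1
      funext g; simp [Γ, e]; ring
    · convert Char.IsGeneralizedCharacter.sub h1 hΓ using 1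
      funext g; simp [Γ, e]; ring
  convert Char.IsGeneralizedCharacter.mul hhalf heta using 1
  funext g
  rcases H.values (g : C) with h | h | h
  · simp only [s, Pi.mul_apply, CentHyp.eta, h.2.1, h.2.2.1, ← A.psi_p' k (Or.inl h.1)]
    simp only [psi]; ring
  · simp only [s, Pi.mul_apply, CentHyp.eta, h.2.1, h.2.2.1, ← A.psi_p' k (Or.inr h.1)]
    simp only [psi]; ring
  · simp only [s, Pi.mul_apply, CentHyp.eta, h.2.1, h.2.2.1]; ring

theorem isGeneralizedCharacter_s (k : Fin 3) : IsGeneralizedCharacter C (A.s k) := by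
  classical
  refine Char.brauer_characterization (A.isClassFunction_s k) fun E q hq hE => ?_
  by_cases h : ∃ g₀ : E, orderOf (H.p2 g₀) = 4
  · obtain ⟨g₀, h₀⟩ := h
    exact A.restrict_s_of_four k hq E hE h₀
  push Not at h
  obtain ⟨f2, hf2⟩ := H.exists_p2_hom hq E hE
  have hcases : ∀ g : E, f2 g = 1 ∨ f2 g = H.z := fun g => by
    rw [hf2]
    rcases H.cases (H.p2_pow8 (g : C)) with e | e | e
    · exact Or.inl e
    · exact Or.inr e
    · exact absurd e (h g)
  obtain ⟨l, hl⟩ := exists_sign_hom H.zz H.z_ne_one f2 hcases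
  have h2 := Char.IsGeneralizedCharacter.mul
    (Char.IsGeneralizedCharacter.restrict (A.isGeneralizedCharacter_psi k) E)
    (Char.IsGeneralizedCharacter.neg
      (Char.isGeneralizedCharacter_of_isCharacter (Char.isCharacter_of_hom l)))
  convert h2 using 1
  funext g
  have hz := H.z_ne_one
  rcases hcases g with e | e <;> rw [hf2] at e
  · simp [s, CentHyp.eta, CentHyp.iO, CentHyp.iZ, hl, hf2, e, Ne.symm hz]
  · simp [s, CentHyp.eta, CentHyp.iO, CentHyp.iZ, hl, hf2, e, hz]

end AlphaData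

end Cfsg.Agent.BrauerSuzuki
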