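/-
The faithful constituents on the centraliser and the seven characters seen by the odd section.

* `BetaData`, `AlphaData.exists_betaData` : `(1 + δ α) eta = σ • β`
* `BetaData.f` : `f k = (1 + δ α) + (1 + δ α) eta = 1 + δ • α + σ • β`
* `BetaData.omega_zero`, `BetaData.omega_unit` : the central character on the odd section
-/
import Cfsg.Agent.Lib.BrauerSuzuki.Elementary

set_option autoImplicit false

open scoped ComplexConjugate
open Subgroup

namespace Cfsg.Agent.BrauerSuzuki

open Cfsg Cfsg.Agent.Blocks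

variable {C : Type*} [Group C] [Fintype C]

theorem conj_eq_self_of_int {x : ℂ} {n : ℤ} (h : x = n) : conj x = x := by
  rw [h, map_intCast]

theorem classInner_irr_cases {θ φ : C → ℂ} (hθ : IsIrrCharacter C θ) (hφ : IsIrrCharacter C φ) :
    θ = φ ∧ classInner θ φ = 1 ∨ θ ≠ φ ∧ classInner θ φ = 0 := by
  by_cases h : θ = φ
  · exact Or.inl ⟨h, by rw [h]; exact Char.classInner_irr_self hφ⟩
  · exact Or.inr ⟨h, Char.classInner_irr_of_ne hθ hφ h⟩

namespace AlphaData

variable {H : CentHyp C} (A : AlphaData H)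

theorem sum_delta_alpha {g : C} (h : H.p2 g = 1 ∨ H.p2 g = H.z) : ∑ k, A.δ k * A.α k g = -1 := by
  have h1 := congrFun A.D_eq g
  have h0 : H.D g = 0 := by
    rcases H.values g with e | e | e
    · simp [CentHyp.D, e.2.2.2]
    · simp [CentHyp.D, e.2.2.2]
    · rcases h with h | h <;> rw [h] at e
      · simp at e
      · have := e.1; rw [H.hz] at this; norm_num at this
  rw [h0] at h1
  simp only [Pi.add_apply, Pi.one_apply, Finset.sum_apply, Pi.smul_apply, smul_eq_mul] at h1
  linear_combination -h1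

theorem sum_psi {g : C} (h : H.p2 g = 1 ∨ H.p2 g = H.z) : ∑ k, A.psi k g = 2 := by
  simp only [psi, Finset.sum_add_distrib, Finset.sum_const, Finset.card_univ, Fintype.card_fin,
    nsmul_one, A.sum_delta_alpha h]
  norm_num

theorem iO_mul_sum_psi (g : C) : H.iO g * ∑ k, A.psi k g = 2 * H.iO g := by
  rcases H.values g with h | h | h
  · rw [A.sum_psi (Or.inl h.1)]; ring
  · rw [h.2.1]; ring
  · rw [h.2.1]; ring

theorem sum_iY_mul_conj (k l : Fin 3) :
    ∑ g, H.iY g * (A.α k g * conj (A.α l g)) = 2 * H.m * (A.δ k * A.δ l) := by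
  have e : ∀ g, H.iY g * (A.α k g * conj (A.α l g)) = H.iY g * (A.δ k * A.δ l) := fun g => by
    rcases H.values g with h | h | h
    · rw [h.2.2.2]; ring
    · rw [h.2.2.2]; ring
    · rw [A.value_Y k h.1, A.value_Y l h.1, conj_sign (A.sign l)]
  simp only [e, ← Finset.sum_mul, H.sum_iY]

theorem sum_iO_conj (k : Fin 3) : ∑ g, H.iO g * conj (A.α k g) = -(H.m * A.δ k) := by
  have := congrArg conj (A.sum_iO k)
  simpa [map_sum, H.conj_iO, conj_sign (A.sign k)] using this

theorem sum_iO_psi (k l : Fin 3) :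
    ∑ g, H.iO g * (A.psi k g * conj (A.psi l g)) = if k = l then 4 * (H.m : ℂ) else 0 := by
  have hαα : ∑ g, H.iO g * (A.α k g * conj (A.α l g)) =
      (if k = l then 4 * (H.m : ℂ) else 0) - H.m * (A.δ k * A.δ l) := by
    have h := H.sum_split (fun g => A.α k g * conj (A.α l g))
    rw [H.sum_iZ_mul (θ := fun g => A.α k g * conj (A.α l g)) (ε := 1)
      fun g => by simp [A.z_mul], A.sum_iY_mul_conj, ← Char.card_mul_classInner, H.card_eq] at h
    push_cast at h
    rcases classInner_irr_cases (A.irr k) (A.irr l) with ⟨e, he⟩ | ⟨e, he⟩ <;> rw [he] at h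
    · rw [if_pos (A.inj e)]; linear_combination -h / 2
    · rw [if_neg fun h => e (by rw [h])]; linear_combination -h / 2
  have e : ∀ g, H.iO g * (A.psi k g * conj (A.psi l g)) = H.iO g + A.δ k * (H.iO g * A.α k g) +
      A.δ l * (H.iO g * conj (A.α l g)) + A.δ k * A.δ l * (H.iO g * (A.α k g * conj (A.α l g))) := by
    intro g; simp only [psi, map_add, map_one, map_mul, conj_sign (A.sign l)]; ring
  simp only [e, Finset.sum_add_distrib, ← Finset.mul_sum, H.sum_iO, A.sum_iO, A.sum_iO_conj, hαα]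
  have h1 := sign_mul_self (A.sign k)
  have h2 := sign_mul_self (A.sign l)
  split_ifs with hkl
  · subst hkl; linear_combination (2 * (H.m : ℂ) - (H.m : ℂ) * (A.δ k * A.δ k + 1)) * h1
  · linear_combination (-(H.m : ℂ) * (1 + A.δ l * A.δ l)) * h1 - 2 * (H.m : ℂ) * h2

theorem s_z_mul (k : Fin 3) (g : C) : A.s k (H.z * g) = -A.s k g := by
  simp only [s, CentHyp.eta, A.psi_z_mul, H.iO_z_mul, H.iZ_z_mul]; ring

theorem classInner_s (k l : Fin 3) : classInner (A.s k) (A.s l) = if k = l then 1 else 0 := by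
  have h := Char.card_mul_classInner (A.s k) (A.s l)
  have e : ∀ g, A.s k g * conj (A.s l g) =
      H.iO g * (A.psi k g * conj (A.psi l g)) + H.iZ g * (A.psi k g * conj (A.psi l g)) := fun g => by
    simp only [s, CentHyp.eta, map_mul, map_sub, H.conj_iO, H.conj_iZ]
    rcases H.values g with h | h | h <;> rw [h.2.1, h.2.2.1] <;> ring
  simp only [e, Finset.sum_add_distrib] at h
  rw [H.sum_iZ_mul (θ := fun g => A.psi k g * conj (A.psi l g)) (ε := 1)
    fun g => by simp [A.psi_z_mul], A.sum_iO_psi, H.card_eq] at h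
  push_cast at h
  have hm : (H.m : ℂ) ≠ 0 := Nat.cast_ne_zero.2 H.m_ne_zero
  refine mul_left_cancel₀ (mul_ne_zero (by norm_num : (8 : ℂ) ≠ 0) hm) (h.trans ?_)
  split_ifs <;> ring

end AlphaData

/-- The faithful constituents. -/
structure BetaData {H : CentHyp C} (A : AlphaData H) where
  β : Fin 3 → C → ℂ
  σ : Fin 3 → ℂ
  irr : ∀ k, IsIrrCharacter C (β k)
  sign : ∀ k, σ k = 1 ∨ σ k = -1
  s_eq : ∀ k, A.s k = σ k • β k

theorem AlphaData.exists_betaData {H : CentHyp C} (A : AlphaData H) : Nonempty (BetaData A) := by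
  have h : ∀ k, ∃ (χ : C → ℂ) (σ : ℂ), IsIrrCharacter C χ ∧ (σ = 1 ∨ σ = -1) ∧ A.s k = σ • χ := by
    intro k
    obtain ⟨χ, hχ, e | e⟩ := Char.IsGeneralizedCharacter.exists_irr_of_norm_one
      (A.isGeneralizedCharacter_s k) (by rw [A.classInner_s, if_pos rfl])
    · exact ⟨χ, 1, hχ, Or.inl rfl, by rw [one_smul]; exact e⟩
    · exact ⟨χ, -1, hχ, Or.inr rfl, by rw [neg_one_smul]; exact e⟩
  choose β σ hirr hs he using h
  exact ⟨⟨β, σ, hirr, hs, he⟩⟩

namespace BetaData

variable {H : CentHyp C} {A : AlphaData H} (B : BetaData A)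

theorem eq_smul_s (k : Fin 3) : B.β k = B.σ k • A.s k := by
  rw [B.s_eq, smul_smul, sign_mul_self (B.sign k), one_smul]

theorem z_mul (k : Fin 3) (g : C) : B.β k (H.z * g) = -B.β k g := by
  simp [B.eq_smul_s, A.s_z_mul]

theorem inj : Function.Injective B.β := by
  intro k l h
  by_contra hne
  have h1 := A.classInner_s k l
  rw [if_neg hne, B.s_eq, B.s_eq, h, Char.classInner_smul_left, Char.classInner_smul_right,
    Char.classInner_irr_self (B.irr l), conj_sign (B.sign l), mul_one] at h1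
  exact mul_ne_zero (sign_ne_zero (B.sign k)) (sign_ne_zero (B.sign l)) h1

theorem ne_alpha (k l : Fin 3) : B.β k ≠ A.α l := fun h => by
  have h1 := B.z_mul k 1
  rw [h, A.z_mul] at h1
  exact Char.IsIrrCharacter.apply_one_ne_zero (A.irr l) (by linear_combination h1 / 2)

theorem ne_one (k : Fin 3) : B.β k ≠ 1 := fun h => by
  have h1 := B.z_mul k 1
  rw [h] at h1
  norm_num at h1

theorem sum_iO (k : Fin 3) : ∑ g, H.iO g * B.β k g = -(2 * H.m * B.σ k) := by
  have e : ∀ g, H.iO g * B.β k g = -B.σ k * (H.iO g + A.δ k * (H.iO g * A.α k g)) := fun g => by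
    simp only [B.eq_smul_s, Pi.smul_apply, smul_eq_mul, AlphaData.s, AlphaData.psi, CentHyp.eta]
    rcases H.values g with h | h | h <;> rw [h.2.1, h.2.2.1] <;> ring
  simp only [e, ← Finset.mul_sum, Finset.sum_add_distrib, H.sum_iO, A.sum_iO]
  linear_combination (B.σ k * H.m) * sign_mul_self (A.sign k)

theorem apply_one (k : Fin 3) : B.σ k * B.β k 1 = -(1 + A.δ k * A.α k 1) := by
  have h := congrFun (B.s_eq k) 1
  rw [Pi.smul_apply, smul_eq_mul] at h
  rw [← h]
  have : H.p2 1 = 1 := one_pow _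
  simp [AlphaData.s, AlphaData.psi, CentHyp.eta, CentHyp.iO, CentHyp.iZ, this, Ne.symm H.z_ne_one]

theorem degree_half (k : Fin 3) : ∃ j : ℕ, 0 < j ∧ B.β k 1 = 2 * (j : ℂ) := by
  obtain ⟨b, hb, hb1⟩ := Char.IsIrrCharacter.exists_degree (B.irr k)
  obtain ⟨a, ha, i, rfl⟩ := A.odd_degree k
  have h := B.apply_one k
  rw [ha, hb1] at h
  have hex : ∃ z : ℤ, (b : ℂ) = 2 * (z : ℂ) := by
    rcases A.sign k with e | e <;> rcases B.sign k with e' | e' <;> rw [e, e'] at h <;> push_cast at h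
    · exact ⟨-((i : ℤ) + 1), by push_cast; linear_combination h⟩
    · exact ⟨(i : ℤ) + 1, by push_cast; linear_combination -h⟩
    · exact ⟨(i : ℤ), by push_cast; linear_combination h⟩
    · exact ⟨-(i : ℤ), by push_cast; linear_combination -h⟩
  obtain ⟨z, hz⟩ := hex
  have hz' : (b : ℤ) = 2 * z := by exact_mod_cast hz
  refine ⟨z.toNat, by omega, ?_⟩
  rw [hb1]
  have : b = 2 * z.toNat := by omega
  exact_mod_cast this

theorem omega_beta_unit (k : Fin 3) {M : Ideal AlgInt} (hM : IsPModular 2 M) :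
    omega (B.β k) H.iO ≠ 0 ∧ MemLocalRing M (omega (B.β k) H.iO)⁻¹ := by
  obtain ⟨j, hj, hj1⟩ := B.degree_half k
  have hj0 : (j : ℂ) ≠ 0 := Nat.cast_ne_zero.2 hj.ne'
  have hm : (H.m : ℂ) ≠ 0 := Nat.cast_ne_zero.2 H.m_ne_zero
  have hσ := sign_ne_zero (B.sign k)
  have hval : omega (B.β k) H.iO = -(H.m * B.σ k) / j := by
    rw [omega_eq_sum, B.sum_iO, hj1]; field_simp
  rw [hval]
  refine ⟨div_ne_zero (neg_ne_zero.2 (mul_ne_zero hm hσ)) hj0, ?_⟩
  have e : (-((H.m : ℂ) * B.σ k) / (j : ℂ))⁻¹ = -((j : ℂ) * B.σ k) * (H.m : ℂ)⁻¹ := by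
    field_simp
    linear_combination sign_mul_self (B.sign k)
  rw [e]
  exact memR_mul hM (memR_neg (memR_mul hM (memR_natCast hM j)
    (memR_of_isIntegral hM (isIntegral_sign (B.sign k)))))
    (memR_natCast_inv hM fun h => (Nat.not_even_iff_odd.2 H.hm) (even_iff_two_dvd.2 h))

/-- Membership in the seven characters. -/
def Seven (θ : C → ℂ) : Prop := θ = 1 ∨ (∃ k, θ = A.α k) ∨ ∃ k, θ = B.β k

theorem omega_unit {θ : C → ℂ} (h : B.Seven θ) {M : Ideal AlgInt} (hM : IsPModular 2 M) :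
    omega θ H.iO ≠ 0 ∧ MemLocalRing M (omega θ H.iO)⁻¹ := by
  rcases h with rfl | ⟨k, rfl⟩ | ⟨k, rfl⟩
  · have hval : omega (1 : C → ℂ) H.iO = ((3 * H.m : ℕ) : ℂ) := by
      rw [omega_eq_sum]
      simp [H.sum_iO]
    rw [hval]
    refine ⟨Nat.cast_ne_zero.2 (mul_ne_zero (by norm_num) H.m_ne_zero), memR_natCast_inv hM fun h => ?_⟩
    rcases (Nat.prime_two.dvd_mul).1 h with h | h
    · norm_num at h
    · exact (Nat.not_even_iff_odd.2 H.hm) (even_iff_two_dvd.2 h)
  · exact A.omega_unit hM k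
  · exact B.omega_beta_unit k hM

theorem omega_zero {θ : C → ℂ} (hθ : IsIrrCharacter C θ) (h : ¬ B.Seven θ) :
    omega θ H.iO = 0 := by
  classical
  simp only [Seven, not_or, not_exists] at h
  obtain ⟨h1, hα, hβ⟩ := h
  suffices hs : ∑ g, H.iO g * conj (θ g) = 0 by
    have := congrArg conj hs
    simp only [map_sum, map_mul, Complex.conj_conj, H.conj_iO, map_zero] at this
    rw [omega_eq_sum, this, zero_div]
  obtain ⟨ε, hε, hz⟩ := H.irr_z hθ
  rcases hε with rfl | rfl
  · have hD : classInner H.D θ = 0 := by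
      rw [A.classInner_D_irr hθ, if_neg (Ne.symm h1), zero_add]
      exact Finset.sum_eq_zero fun k _ => by rw [if_neg (Ne.symm (hα k)), mul_zero]
    have hY := H.classInner_D θ
    rw [hD, mul_zero] at hY
    have h0 := H.sum_split (fun g => conj (θ g))
    rw [← map_sum, sum_irr_eq_zero hθ h1, map_zero,
      H.sum_iZ_mul (θ := fun g => conj (θ g)) (ε := 1) fun g => by rw [hz, one_mul, one_mul]] at h0
    linear_combination (-h0) / 2 + hY / 8
  · have hk : ∀ k, ∑ g, H.iO g * (A.psi k g * conj (θ g)) = 0 := fun k => by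
      have h0 := Char.card_mul_classInner (A.s k) θ
      rw [B.s_eq, Char.classInner_smul_left,
        Char.classInner_irr_of_ne (B.irr k) hθ (Ne.symm (hβ k)), mul_zero, mul_zero, ← B.s_eq] at h0
      have e : ∀ g, A.s k g * conj (θ g) =
          H.iZ g * (A.psi k g * conj (θ g)) - H.iO g * (A.psi k g * conj (θ g)) := fun g => by
        simp only [AlphaData.s, CentHyp.eta]; ring
      simp only [e, Finset.sum_sub_distrib] at h0
      rw [H.sum_iZ_mul (θ := fun g => A.psi k g * conj (θ g)) (ε := -1) fun g => by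
        simp [A.psi_z_mul, hz]] at h0
      linear_combination h0 / 2
    have hsum : ∑ k, ∑ g, H.iO g * (A.psi k g * conj (θ g)) = 0 := Finset.sum_eq_zero fun k _ => hk k
    rw [Finset.sum_comm] at hsum
    have e : ∀ g, ∑ k, H.iO g * (A.psi k g * conj (θ g)) = 2 * (H.iO g * conj (θ g)) := fun g => by
      rw [← Finset.mul_sum, ← Finset.sum_mul, ← mul_assoc, A.iO_mul_sum_psi]; ring
    simp only [e, ← Finset.mul_sum] at hsum
    linear_combination hsum / 2

/-- The class function vanishing on the odd section. -/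
noncomputable def f (_B : BetaData A) (k : Fin 3) (g : C) : ℂ := A.psi k g + A.s k g

theorem f_eq (k : Fin 3) : B.f k = 1 + A.δ k • A.α k + B.σ k • B.β k := by
  funext g
  rw [f, congrFun (B.s_eq k) g]
  simp [AlphaData.psi]

theorem isClassFunction_f (k : Fin 3) : IsClassFunction C (B.f k) := fun g h => by
  simp [f, A.isClassFunction_psi k g h, A.isClassFunction_s k g h]

theorem isGeneralizedCharacter_f (k : Fin 3) : IsGeneralizedCharacter C (B.f k) :=
  Char.IsGeneralizedCharacter.add (A.isGeneralizedCharacter_psi k) (A.isGeneralizedCharacter_s k)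

theorem f_odd (k : Fin 3) {g : C} (hg : H.p2 g = 1) : B.f k g = 0 := by
  simp [f, AlphaData.s, CentHyp.eta, CentHyp.iO, CentHyp.iZ, hg, Ne.symm H.z_ne_one]

theorem identity {g : C} (hg : H.p2 g ≠ 1) : 8 - 2 * ∑ k, B.f k g + H.D g = 0 := by
  simp only [f, AlphaData.s, CentHyp.eta, CentHyp.D, Finset.sum_add_distrib]
  rw [← Finset.sum_mul]
  rcases H.values g with h | h | h
  · exact absurd h.1 hg
  · rw [A.sum_psi (Or.inr h.1), h.2.1, h.2.2.1, h.2.2.2]; ring
  · have : ∀ k, A.psi k g = 2 := fun k => by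
      simp only [AlphaData.psi]; rw [A.value_Y k h.1, sign_mul_self (A.sign k)]; norm_num
    simp only [this, h.2.1, h.2.2.1, h.2.2.2, Finset.sum_const, Finset.card_univ, Fintype.card_fin]
    norm_num

end BetaData

end Cfsg.Agent.BrauerSuzuki
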