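/-
Induction from the centraliser of the involution.

* `QuatHyp` : the hypotheses on the group
* `QuatHyp.ind_apply_even`, `QuatHyp.ind_apply_odd`, `QuatHyp.ind_isometry`
* `QuatHyp.oddInd` : the indicator of elements of odd order, `QuatHyp.eight_oddInd`
-/
import Cfsg.Agent.Lib.BrauerSuzuki.Faithful
import Cfsg.Agent.Lib.Involution.Basic

set_option autoImplicit false

open scoped ComplexConjugate
open Subgroup

namespace Cfsg.Agent.BrauerSuzuki

open Cfsg Cfsg.Agent.Blocks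

/-- A group with one class of involutions, of quaternion type of order eight. -/
structure QuatHyp (G : Type*) [Group G] where
  z : G
  hz : orderOf z = 2
  conj2 : ∀ x, orderOf x = 2 → IsConj z x
  cen : CentHyp (centralizer ({z} : Set G))
  cen_z : (cen.z : G) = z
  odd_index : Odd (centralizer ({z} : Set G)).index

namespace QuatHyp

variable {G : Type*} [Group G]

/-- The elements of even order of the centraliser. -/
def evenPart (Q : QuatHyp G) : Set G := {g | g ∈ centralizer ({Q.z} : Set G) ∧ 2 ∣ orderOf g}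

theorem uniq (Q : QuatHyp G) {x : G} (hx : orderOf x = 2) (hxC : x ∈ centralizer ({Q.z} : Set G)) :
    x = Q.z := by
  have h := Q.cen.uniq ⟨x, hxC⟩ (by rw [Subgroup.orderOf_mk]; exact hx)
  rw [← Q.cen_z, ← h]

theorem z_mem (Q : QuatHyp G) : Q.z ∈ centralizer ({Q.z} : Set G) :=
  mem_centralizer_singleton_iff.2 rfl

theorem two_dvd_iff [Finite G] (Q : QuatHyp G) (c : centralizer ({Q.z} : Set G)) :
    2 ∣ orderOf (c : G) ↔ Q.cen.p2 c ≠ 1 := by
  rw [Subgroup.orderOf_coe]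
  constructor
  · intro h he
    have h1 := Q.cen.p2_mul_p' c
    rw [he, one_mul] at h1
    have h2 : orderOf c ∣ Q.cen.m := orderOf_dvd_of_pow_eq_one (by rw [← h1]; exact Q.cen.p'_pow_m c)
    exact (Nat.not_even_iff_odd.2 Q.cen.hm) (even_iff_two_dvd.2 (h.trans h2))
  · intro h
    rcases Q.cen.cases (Q.cen.p2_pow8 c) with e | e | e
    · exact absurd e h
    · rw [← Q.cen.hz, ← e]; exact orderOf_pow_dvd _
    · exact (show 2 ∣ 4 by norm_num).trans (e ▸ orderOf_pow_dvd _)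

theorem exists_involution_power [Finite G] {g : G} (h : 2 ∣ orderOf g) :
    ∃ k : ℕ, orderOf (g ^ k) = 2 := by
  refine ⟨orderOf g / 2, ?_⟩
  have hpos := orderOf_pos g
  obtain ⟨j, hj⟩ := h
  rw [hj, Nat.mul_div_cancel_left j (by norm_num)]
  rw [orderOf_pow' g (by omega : j ≠ 0), hj, Nat.gcd_eq_right (Dvd.intro_left 2 rfl)]
  exact Nat.mul_div_cancel _ (by omega)

theorem exists_conj_mem [Finite G] (Q : QuatHyp G) {g : G} (hg : 2 ∣ orderOf g) :
    ∃ (x : G) (c : centralizer ({Q.z} : Set G)),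
      Q.cen.p2 c ≠ 1 ∧ (c : G) = x * g * x⁻¹ := by
  obtain ⟨k, hk⟩ := exists_involution_power hg
  obtain ⟨x, hx⟩ := isConj_iff.1 (Q.conj2 _ hk).symm
  have hmem : x * g * x⁻¹ ∈ centralizer ({Q.z} : Set G) := by
    rw [mem_centralizer_singleton_iff, ← hx]
    simp only [mul_assoc, inv_mul_cancel_left]
    rw [← mul_assoc g, ((Commute.refl g).pow_right k).eq, mul_assoc]
  refine ⟨x, ⟨_, hmem⟩, (Q.two_dvd_iff _).1 ?_, rfl⟩
  show 2 ∣ orderOf (x * g * x⁻¹)
  rwa [show x * g * x⁻¹ = MulAut.conj x g from rfl, MulEquiv.orderOf_eq]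

theorem eq_normalizer [Finite G] (Q : QuatHyp G) :
    centralizer ({Q.z} : Set G) = Subgroup.normalizer Q.evenPart := by
  ext g
  rw [mem_set_normalizer_iff]
  constructor
  · intro hg h
    show _ ∧ _ ↔ _ ∧ _
    rw [show g * h * g⁻¹ = MulAut.conj g h from rfl, MulEquiv.orderOf_eq]
    refine and_congr ?_ Iff.rfl
    rw [MulAut.conj_apply, Subgroup.mul_mem_cancel_right _ (inv_mem hg), Subgroup.mul_mem_cancel_left _ hg]
  · intro hg
    have h := (hg Q.z).1 ⟨Q.z_mem, by rw [Q.hz]⟩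
    have h1 := Q.uniq (Involution.orderOf_conj g Q.z ▸ Q.hz) h.1
    rw [mem_centralizer_singleton_iff]
    exact mul_inv_eq_iff_eq_mul.1 h1

theorem ti [Finite G] (Q : QuatHyp G) :
    ∀ g : G, g ∉ centralizer ({Q.z} : Set G) → ∀ t ∈ Q.evenPart, g * t * g⁻¹ ∈ Q.evenPart → t = 1 := by
  rintro g hg t ⟨htC, hte⟩ ⟨htC', -⟩
  exfalso
  obtain ⟨k, hk⟩ := exists_involution_power hte
  have h1 := Q.uniq hk (pow_mem htC k)
  have h2 : g * t ^ k * g⁻¹ = Q.z := by
    refine Q.uniq (by rw [Involution.orderOf_conj]; exact hk) ?_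
    rw [← conj_pow]; exact pow_mem htC' k
  rw [h1] at h2
  exact hg (mem_centralizer_singleton_iff.2 (mul_inv_eq_iff_eq_mul.1 h2))

theorem ind_eq_of_ti [Fintype G] (T : Set G) (K : Subgroup G) (hK : K = Subgroup.normalizer T)
    (hTI : ∀ g : G, g ∉ K → ∀ t ∈ T, g * t * g⁻¹ ∈ T → t = 1)
    {ψ : K → ℂ} (hψ : IsClassFunction K ψ) (hψT : ∀ x : K, (x : G) ∉ T → ψ x = 0)
    (t : K) (htT : (t : G) ∈ T) (ht1 : t ≠ 1) : Cfsg.indFun K ψ t = ψ t := by
  subst hK
  exact Char.indFun_eq_on_ti T hTI hψ hψT t htT ht1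

theorem isometry_of_ti [Fintype G] (T : Set G) (K : Subgroup G) (hK : K = Subgroup.normalizer T)
    (hTI : ∀ g : G, g ∉ K → ∀ t ∈ T, g * t * g⁻¹ ∈ T → t = 1) [Fintype K]
    (ψ θ : K → ℂ) (hψ : IsClassFunction K ψ)
    (hψT : ∀ x : K, (x : G) ∉ T → ψ x = 0) (hθT : ∀ x : K, (x : G) ∉ T → θ x = 0)
    (hψ1 : ψ 1 = 0) : classInner (Cfsg.indFun K ψ) (Cfsg.indFun K θ) = classInner ψ θ := by
  subst hK
  exact Char.indFun_ti_isometry T hTI ψ θ hψ hψT hθT hψ1

theorem vanish [Finite G] (Q : QuatHyp G) {f : centralizer ({Q.z} : Set G) → ℂ}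
    (hf : ∀ c, Q.cen.p2 c = 1 → f c = 0) (c : centralizer ({Q.z} : Set G))
    (hc : (c : G) ∉ Q.evenPart) : f c = 0 := by
  refine hf c ?_
  by_contra h
  exact hc ⟨c.2, (Q.two_dvd_iff c).2 h⟩

variable [Fintype G]

theorem ind_apply_odd (Q : QuatHyp G) {f : centralizer ({Q.z} : Set G) → ℂ}
    (hf : ∀ c, Q.cen.p2 c = 1 → f c = 0) {g : G} (hg : ¬ 2 ∣ orderOf g) :
    Cfsg.indFun (centralizer ({Q.z} : Set G)) f g = 0 := by
  rw [Cfsg.indFun, Finset.sum_eq_zero, mul_zero]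
  intro x _
  rw [Char.extendByZero_eq]
  split_ifs with h
  · refine Q.vanish hf _ fun hT => hg ?_
    have : 2 ∣ orderOf (x⁻¹ * g * x) := hT.2
    rwa [show x⁻¹ * g * x = MulAut.conj x⁻¹ g by simp, MulEquiv.orderOf_eq] at this
  · rfl

theorem ind_apply_even (Q : QuatHyp G) {f : centralizer ({Q.z} : Set G) → ℂ}
    (hcl : IsClassFunction _ f) (hf : ∀ c, Q.cen.p2 c = 1 → f c = 0)
    {g x : G} {c : centralizer ({Q.z} : Set G)} (hc : Q.cen.p2 c ≠ 1) (hx : (c : G) = x * g * x⁻¹) :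
    Cfsg.indFun (centralizer ({Q.z} : Set G)) f g = f c := by
  have h := Char.indFun_isClassFunction (centralizer ({Q.z} : Set G)) f g x
  rw [← hx] at h
  rw [← h]
  refine ind_eq_of_ti _ _ Q.eq_normalizer Q.ti hcl (Q.vanish hf) c ⟨c.2, (Q.two_dvd_iff c).2 hc⟩ ?_
  rintro rfl
  exact hc (one_pow _)

theorem ind_isometry (Q : QuatHyp G) [Fintype (centralizer ({Q.z} : Set G))]
    {f f' : centralizer ({Q.z} : Set G) → ℂ} (hcl : IsClassFunction _ f)
    (hf : ∀ c, Q.cen.p2 c = 1 → f c = 0) (hf' : ∀ c, Q.cen.p2 c = 1 → f' c = 0) :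
    classInner (Cfsg.indFun (centralizer ({Q.z} : Set G)) f)
      (Cfsg.indFun (centralizer ({Q.z} : Set G)) f') = classInner f f' :=
  isometry_of_ti _ _ Q.eq_normalizer Q.ti f f' hcl (Q.vanish hf) (Q.vanish hf') (hf 1 (one_pow _))

/-- The indicator of the elements of odd order. -/
noncomputable def oddInd (g : G) : ℂ := if 2 ∣ orderOf g then 0 else 1

theorem isClassFunction_oddInd : IsClassFunction G (oddInd (G := G)) := fun g h => by
  simp [oddInd, Involution.orderOf_conj]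

end QuatHyp

end Cfsg.Agent.BrauerSuzuki
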