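/-
The value at `z` of a character with unit central character on the odd elements.

* `phi`, `phi_conv`
* `QuatHyp.value_z`
-/
import Cfsg.Agent.Lib.BrauerSuzuki.GroupSide

set_option autoImplicit false

open scoped ComplexConjugate
open Subgroup

namespace Cfsg.Agent.BrauerSuzuki

open Cfsg Cfsg.Agent.Blocks

/-- The matrix of a function on a group. -/
noncomputable def phi {A : Type*} [Group A] [Fintype A] {n : ℕ}
    (ρ : A →* Matrix (Fin n) (Fin n) ℂ) (f : A → ℂ) : Matrix (Fin n) (Fin n) ℂ := ∑ a, f a • ρ a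

theorem phi_conv {A : Type*} [Group A] [Fintype A] {n : ℕ}
    (ρ : A →* Matrix (Fin n) (Fin n) ℂ) (f f' : A → ℂ) :
    phi ρ (conv f f') = phi ρ f * phi ρ f' := by
  simp only [phi, conv_eq_sum, Finset.sum_smul, Finset.sum_mul]
  rw [Finset.sum_comm]
  refine Finset.sum_congr rfl fun x _ => ?_
  rw [Finset.mul_sum]
  refine (Fintype.sum_equiv (Equiv.mulLeft x) _ _ fun y => ?_).symm
  simp [map_mul, smul_smul, mul_comm (f' y) (f x)]

namespace QuatHyp

variable {G : Type*} [Group G] [Fintype G]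

theorem iO_eq_oddInd (Q : QuatHyp G) (c : centralizer ({Q.z} : Set G)) :
    Q.cen.iO c = oddInd (c : G) := by
  classical
  simp only [CentHyp.iO, oddInd]
  by_cases h : Q.cen.p2 c = 1
  · rw [if_pos h, if_neg fun hd => (Q.two_dvd_iff c).1 hd h]
  · rw [if_neg h, if_pos ((Q.two_dvd_iff c).2 h)]

theorem value_z (Q : QuatHyp G) [Fintype (centralizer ({Q.z} : Set G))] {A : AlphaData Q.cen}
    (B : BetaData A) {χ : G → ℂ} (hχ : IsIrrCharacter G χ) {M : Ideal AlgInt} (hM : IsPModular 2 M)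
    (hτ : omega χ oddInd ≠ 0) (hτR : MemLocalRing M (omega χ oddInd)⁻¹) :
    χ Q.z = ∑ k, classInner (B.f k) (fun c => χ (c : G)) * (1 + A.δ k * A.α k 1)
      - classInner Q.cen.D (fun c => χ (c : G)) := by
  classical
  obtain ⟨n, ρ, hn, hρR, htr, hop⟩ := exists_realisation hM hχ
  let ρC : centralizer ({Q.z} : Set G) →* Matrix (Fin n) (Fin n) ℂ :=
    ρ.comp (centralizer ({Q.z} : Set G)).subtype
  set χC : centralizer ({Q.z} : Set G) → ℂ := fun c => χ (c : G) with hχC
  have hCh : IsCharacter _ χC :=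
    Char.IsCharacter.restrict (Char.IsIrrCharacter.isCharacter hχ) _
  have := Fintype.ofFinite (IrrCharacter (centralizer ({Q.z} : Set G)))
  -- the seven characters
  let e : Option (Fin 3 ⊕ Fin 3) → IrrCharacter (centralizer ({Q.z} : Set G))
    | none => ⟨1, Char.isIrrCharacter_one⟩
    | some (.inl k) => ⟨A.α k, A.irr k⟩
    | some (.inr k) => ⟨B.β k, B.irr k⟩
  have he : Function.Injective e := by
    rintro (_ | k | k) (_ | l | l) h <;> have h' := congrArg Subtype.val h
    · rfl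
    · exact absurd h'.symm (A.ne_one l)
    · exact absurd h'.symm (B.ne_one l)
    · exact absurd h' (A.ne_one k)
    · rw [A.inj h']
    · exact absurd h'.symm (B.ne_alpha l k)
    · exact absurd h' (B.ne_one k)
    · exact absurd h' (B.ne_alpha k l)
    · rw [B.inj h']
  have hseven : ∀ θ : IrrCharacter (centralizer ({Q.z} : Set G)),
      B.Seven (θ : _ → ℂ) ↔ ∃ i, e i = θ := by
    intro θ
    constructor
    · rintro (h | ⟨k, h⟩ | ⟨k, h⟩)
      · exact ⟨none, Subtype.ext h.symm⟩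
      · exact ⟨some (.inl k), Subtype.ext h.symm⟩
      · exact ⟨some (.inr k), Subtype.ext h.symm⟩
    · rintro ⟨(_ | k | k), rfl⟩
      · exact Or.inl rfl
      · exact Or.inr (Or.inl ⟨k, rfl⟩)
      · exact Or.inr (Or.inr ⟨k, rfl⟩)
  set o : IrrCharacter (centralizer ({Q.z} : Set G)) → ℂ := omegaFun Q.cen.iO with ho
  let c : IrrCharacter (centralizer ({Q.z} : Set G)) → ℂ :=
    fun θ => if ∃ i, e i = θ then 0 else 1
  have hoe : ∀ i, o (e i) ≠ 0 ∧ MemLocalRing M (o (e i))⁻¹ := fun i =>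
    B.omega_unit ((hseven (e i)).2 ⟨i, rfl⟩) hM
  have hc : c = ∏ i, (1 - (fun _ => (o (e i))⁻¹) * o) := by
    funext θ
    rw [Finset.prod_apply]
    simp only [c, Pi.sub_apply, Pi.one_apply, Pi.mul_apply]
    split_ifs with h
    · obtain ⟨i, hi⟩ := h
      refine (Finset.prod_eq_zero (Finset.mem_univ i) ?_).symm
      rw [← hi, inv_mul_cancel₀ (hoe i).1, sub_self]
    · have h0 : o θ = 0 := B.omega_zero θ.2 fun h' => h ((hseven θ).1 h')
      simp [h0]
  have hcR : c ∈ intRing hM := by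
    rw [hc]
    refine Subring.prod_mem _ fun i _ => Subring.sub_mem _ (Subring.one_mem _) (Subring.mul_mem _ ?_ ?_)
    · exact const_mem_intRing hM (hoe i).2
    · refine omega_mem_intRing hM Q.cen.isClassFunction_iO fun g => ?_
      simp only [CentHyp.iO]; split_ifs
      · exact memR_one hM
      · exact memR_zero hM
  have hcc : c * c = c := by funext θ; simp only [c, Pi.mul_apply]; split_ifs <;> simp
  have hoc : o * c = 0 := by
    funext θ
    simp only [c, Pi.mul_apply, Pi.zero_apply]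
    split_ifs with h
    · rw [mul_zero]
    · rw [mul_one]; exact B.omega_zero θ.2 fun h' => h ((hseven θ).1 h')
  set P := phi ρC (ofOmega c) with hPdef
  have hPP : P * P = P := by rw [hPdef, ← phi_conv, ← ofOmega_mul, hcc]
  have hiO : ofOmega o = Q.cen.iO := ofOmega_omega Q.cen.isClassFunction_iO
  set A0 := phi ρC Q.cen.iO with hA0
  have hAP : A0 * P = 0 := by
    rw [hA0, ← hiO, hPdef, ← phi_conv, ← ofOmega_mul, hoc, ofOmega_zero]
    simp [phi]
  let fz : centralizer ({Q.z} : Set G) → ℂ := fun g => if g = Q.cen.z then 1 else 0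
  have hfz : IsClassFunction _ fz := fun g h => by
    refine if_congr ⟨fun e => ?_, fun e => by rw [e, Q.cen.conj_z]⟩ rfl rfl
    rw [← Q.cen.conj_z h⁻¹, ← e]; group
  set Z := phi ρC fz with hZdef
  have hZρ : Z = ρ Q.z := by
    simp [hZdef, phi, fz, ite_smul, ρC, Q.cen_z]
  have hz2 : Q.z * Q.z = 1 := Involution.mul_self Q.hz
  have hZ2 : Z * Z = 1 := by rw [hZρ, ← map_mul, hz2, map_one]
  have hZof : ofOmega (omegaFun fz) = fz := ofOmega_omega hfz
  have hZP : Z * P = P * Z := by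
    rw [hZdef, ← hZof, hPdef, ← phi_conv, ← phi_conv, ← ofOmega_mul, ← ofOmega_mul, mul_comm]
  have hPR : ∀ i j, MemLocalRing M (P i j) := fun i j => by
    rw [hPdef, phi, Matrix.sum_apply]
    exact memR_sum hM _ fun g _ => memR_mul hM (hcR g) (hρR _ i j)
  have hzinv : ρ Q.z⁻¹ = Z := by rw [hZρ, Involution.inv_eq Q.hz]
  let O : Finset G := Finset.univ.filter fun g => ¬ 2 ∣ orderOf g
  have hsumO : ∑ g ∈ O, ρ g = omega χ oddInd • (1 : Matrix (Fin n) (Fin n) ℂ) := by
    rw [← hop _ isClassFunction_oddInd, Finset.sum_filter]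
    exact Finset.sum_congr rfl fun g _ => by
      simp only [oddInd]; split_ifs <;> simp_all
  obtain ⟨S, -, hsplit⟩ := sum_split_involutive (β := Matrix (Fin n) (Fin n) ℂ) O
    (fun g => Q.z * g * Q.z⁻¹)
    (fun g hg => by
      simp only [O, Finset.mem_filter, Finset.mem_univ, true_and] at hg ⊢
      rwa [Involution.orderOf_conj])
    (fun g _ => by
      show Q.z * (Q.z * g * Q.z⁻¹) * Q.z⁻¹ = g
      calc Q.z * (Q.z * g * Q.z⁻¹) * Q.z⁻¹ = (Q.z * Q.z) * g * (Q.z * Q.z)⁻¹ := by group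
        _ = g := by rw [hz2]; group)
  have hfix : ∑ g ∈ O with Q.z * g * Q.z⁻¹ = g, ρ g = A0 := by
    rw [hA0, phi]
    have : ∀ c : centralizer ({Q.z} : Set G), Q.cen.iO c • ρC c =
        if ¬ 2 ∣ orderOf (c : G) then ρ c else 0 := fun c => by
      rw [Q.iO_eq_oddInd, oddInd]; split_ifs <;> simp [ρC]
    simp only [this]
    rw [← Finset.sum_subtype (p := (· ∈ centralizer ({Q.z} : Set G)))
      (Finset.univ.filter fun g => g ∈ centralizer ({Q.z} : Set G)) (by simp)
      (fun g : G => if ¬ 2 ∣ orderOf g then ρ g else 0), ← Finset.sum_filter, Finset.filter_filter]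
    refine Finset.sum_congr ?_ fun _ _ => rfl
    ext g
    simp only [O, Finset.mem_filter, Finset.mem_univ, true_and, mem_centralizer_singleton_iff,
      mul_inv_eq_iff_eq_mul]
    constructor
    · rintro ⟨a, b⟩; exact ⟨b.symm, a⟩
    · rintro ⟨a, b⟩; exact ⟨b, a.symm⟩
  have key : (Z * P).trace = 0 := by
    refine trace_mul_eq_zero hM rfl Z P (∑ g ∈ S, ρ g) (omega χ oddInd)
      (fun i j => by rw [hZρ]; exact hρR _ i j) hPR
      (fun i j => by rw [Matrix.sum_apply]; exact memR_sum hM _ fun g _ => hρR g i j)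
      hZ2 hPP hZP hτ hτR ?_
    have h1 : ∑ g ∈ S, ρ (Q.z * g * Q.z⁻¹) = Z * (∑ g ∈ S, ρ g) * Z := by
      rw [Finset.mul_sum, Finset.sum_mul]
      exact Finset.sum_congr rfl fun g _ => by rw [map_mul, map_mul, hzinv, hZρ]
    have h2 := hsplit (fun g => ρ g)
    rw [hsumO, hfix, h1] at h2
    calc omega χ oddInd • P
        = P * (omega χ oddInd • (1 : Matrix (Fin n) (Fin n) ℂ)) * P := by
          rw [mul_smul_comm, mul_one, smul_mul_assoc, hPP]
      _ = P * (A0 * P) + P * (∑ g ∈ S, ρ g + Z * (∑ g ∈ S, ρ g) * Z) * P := by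
          rw [h2, mul_add, add_mul, mul_assoc]
      _ = _ := by rw [hAP, mul_zero, zero_add]
  rw [hZdef, ← hZof, hPdef, ← phi_conv, ← ofOmega_mul, phi, Matrix.trace_sum] at key
  simp only [Matrix.trace_smul, smul_eq_mul, ρC, MonoidHom.comp_apply, Subgroup.coe_subtype, htr] at key
  have key2 : ∑ g, ofOmega (omegaFun fz * c) g * χC g = 0 := by
    have hk : ((n : ℂ) / χ 1) ≠ 0 := div_ne_zero (Nat.cast_ne_zero.2 hn.ne')
      (Char.IsIrrCharacter.apply_one_ne_zero hχ)
    refine mul_left_cancel₀ hk ?_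
    rw [mul_zero, ← key, Finset.mul_sum]
    exact Finset.sum_congr rfl fun g _ => by rw [hχC]; ring
  have hexp := Char.classFunction_eq_sum (Char.IsCharacter.isClassFunction hCh)
  set m : IrrCharacter (centralizer ({Q.z} : Set G)) → ℂ :=
    fun θ => classInner χC (θ : _ → ℂ)
  have hval : ∀ θ : IrrCharacter (centralizer ({Q.z} : Set G)),
      ∑ g, ofOmega (omegaFun fz * c) g * (θ : _ → ℂ) g = (θ : _ → ℂ) Q.cen.z * c θ := fun θ => by
    have h := omega_ofOmega (omegaFun fz * c) θ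
    rw [omega_eq_sum, div_eq_iff (irr_one_ne_zero θ)] at h
    rw [h, Pi.mul_apply, omegaFun, omega_eq_sum]
    simp only [fz, ite_mul, one_mul, zero_mul, Finset.sum_ite_eq', Finset.mem_univ, if_true]
    field_simp [irr_one_ne_zero θ]
  have key3 : ∑ θ, m θ * ((θ : _ → ℂ) Q.cen.z * c θ) = 0 := by
    rw [← key2]
    simp only [← hval, Finset.mul_sum]
    rw [Finset.sum_comm]
    refine Finset.sum_congr rfl fun g _ => ?_
    conv_rhs => rw [hexp]
    simp only [Finset.sum_apply, Pi.smul_apply, smul_eq_mul, Finset.mul_sum, m]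
    exact Finset.sum_congr rfl fun θ _ => by ring
  have key4 : χ Q.z = ∑ i, m (e i) * (e i : _ → ℂ) Q.cen.z := by
    have h1 : χ Q.z = ∑ θ, m θ * (θ : _ → ℂ) Q.cen.z := by
      rw [show χ Q.z = χC Q.cen.z by rw [hχC]; simp [Q.cen_z]]
      conv_lhs => rw [hexp]
      simp [m]
    have h2 : ∑ i, m (e i) * (e i : _ → ℂ) Q.cen.z =
        ∑ θ, m θ * ((θ : _ → ℂ) Q.cen.z * (1 - c θ)) := by
      rw [← Finset.sum_image (g := e) (f := fun θ => m θ * (θ : _ → ℂ) Q.cen.z) fun a _ b _ h => he h]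
      rw [← Finset.sum_filter_add_sum_filter_not Finset.univ (fun θ => ∃ i, e i = θ)
        (fun θ => m θ * ((θ : _ → ℂ) Q.cen.z * (1 - c θ)))]
      rw [Finset.sum_eq_zero (s := Finset.univ.filter fun θ => ¬ ∃ i, e i = θ) fun θ hθ => by
        simp only [Finset.mem_filter] at hθ; simp [c, hθ.2], add_zero]
      refine Finset.sum_congr ?_ fun θ hθ => ?_
      · ext θ; simp
      · simp only [Finset.mem_filter] at hθ; simp [c, hθ.2]
    rw [h1, h2]
    simp only [mul_sub, mul_one, Finset.sum_sub_distrib, key3, sub_zero]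
  have hm : ∀ θ : IrrCharacter (centralizer ({Q.z} : Set G)),
      classInner (θ : _ → ℂ) χC = m θ := fun θ => by
    obtain ⟨j, hj⟩ := Char.IsCharacter.classInner_nat hCh (Char.IsIrrCharacter.isCharacter θ.2)
    rw [← Char.classInner_conj_symm]
    simp only [m, hj, Complex.conj_natCast]
  have hf : ∀ k, classInner (B.f k) χC =
      m (e none) + A.δ k * m (e (some (.inl k))) + B.σ k * m (e (some (.inr k))) := fun k => by
    rw [B.f_eq, Char.classInner_add_left, Char.classInner_add_left, Char.classInner_smul_left,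
      Char.classInner_smul_left, ← hm, ← hm, ← hm]
  have hD : classInner Q.cen.D χC = m (e none) + ∑ k, A.δ k * m (e (some (.inl k))) := by
    rw [A.D_eq, Char.classInner_add_left, Char.classInner_sum_left, ← hm]
    congr 1
    exact Finset.sum_congr rfl fun k _ => by rw [Char.classInner_smul_left, ← hm]
  have hz_α : ∀ k, A.α k Q.cen.z = A.α k 1 := fun k => by
    simpa using A.z_mul k 1
  have hz_β : ∀ k, B.β k Q.cen.z = -B.β k 1 := fun k => by
    simpa using B.z_mul k 1
  have hdeg : ∑ k, A.δ k * A.α k 1 = -1 := A.sum_delta_alpha (Or.inl (one_pow _))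
  rw [key4, Fintype.sum_option, Fintype.sum_sum_type, hD]
  simp only [hf]
  simp only [Fin.sum_univ_three] at hdeg ⊢
  have hβ1 : ∀ k, B.β k 1 = -B.σ k * (1 + A.δ k * A.α k 1) := fun k => by
    linear_combination B.σ k * B.apply_one k - B.β k 1 * sign_mul_self (B.sign k)
  show m (e none) * (1 : centralizer ({Q.z} : Set G) → ℂ) Q.cen.z + ((_ * A.α 0 _ + _ * A.α 1 _ + _ * A.α 2 _) +
    (_ * B.β 0 _ + _ * B.β 1 _ + _ * B.β 2 _)) = _
  simp only [hz_α, hz_β, hβ1, Pi.one_apply]
  have s0 := sign_mul_self (A.sign 0)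
  have s1 := sign_mul_self (A.sign 1)
  have s2 := sign_mul_self (A.sign 2)
  linear_combination -(m (e none)) * hdeg - m (e (some (.inl 0))) * A.α 0 1 * s0
    - m (e (some (.inl 1))) * A.α 1 1 * s1 - m (e (some (.inl 2))) * A.α 2 1 * s2

end QuatHyp

end Cfsg.Agent.BrauerSuzuki
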