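/-
The nontrivial character of degree equal to its value at the involution.

* `QuatHyp.exists_table` : integer coefficient vectors of `D` and `F k` induced to the group
* `QuatHyp.pair_relation` : a generalized character vanishing on odd elements kills the squares of the values at `z`
* `QuatHyp.exists_normal` : a proper normal subgroup contains `z`
-/
import Cfsg.Agent.Lib.BrauerSuzuki.Values
import Cfsg.Agent.Lib.BrauerSuzuki.Shape

set_option autoImplicit false

open scoped ComplexConjugate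
open Subgroup

namespace Cfsg.Agent.BrauerSuzuki

open Cfsg Cfsg.Agent.Blocks

theorem BetaData.inner_f_D {C : Type*} [Group C] [Fintype C] {H : CentHyp C} {A : AlphaData H}
    (B : BetaData A) (k : Fin 3) : classInner H.D (B.f k) = 2 := by
  classical
  rw [B.f_eq, Char.classInner_add_right, Char.classInner_add_right, Char.classInner_smul_right,
    Char.classInner_smul_right, A.classInner_D, conj_sign (A.sign k), sign_mul_self (A.sign k),
    H.classInner_D_one, H.classInner_D_eq_zero (B.z_mul k), mul_zero, add_zero]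
  norm_num

theorem BetaData.inner_f_one {C : Type*} [Group C] [Fintype C] {H : CentHyp C} {A : AlphaData H}
    (B : BetaData A) (k : Fin 3) : classInner (B.f k) (1 : C → ℂ) = 1 := by
  rw [B.f_eq, Char.classInner_add_left, Char.classInner_add_left, Char.classInner_smul_left,
    Char.classInner_smul_left, Char.classInner_irr_self Char.isIrrCharacter_one,
    Char.classInner_irr_of_ne (A.irr k) Char.isIrrCharacter_one (A.ne_one k),
    Char.classInner_irr_of_ne (B.irr k) Char.isIrrCharacter_one (B.ne_one k)]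
  ring

theorem BetaData.inner_f_f {C : Type*} [Group C] [Fintype C] {H : CentHyp C} {A : AlphaData H}
    (B : BetaData A) (k l : Fin 3) : classInner (B.f k) (B.f l) = if k = l then 3 else 1 := by
  classical
  have h1 := Char.isIrrCharacter_one (G := C)
  rw [B.f_eq, B.f_eq]
  simp only [Char.classInner_add_left, Char.classInner_add_right, Char.classInner_smul_left,
    Char.classInner_smul_right, Char.classInner_irr_self h1,
    Char.classInner_irr_of_ne h1 (A.irr _) (Ne.symm (A.ne_one _)),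
    Char.classInner_irr_of_ne h1 (B.irr _) (Ne.symm (B.ne_one _)),
    Char.classInner_irr_of_ne (A.irr _) h1 (A.ne_one _),
    Char.classInner_irr_of_ne (B.irr _) h1 (B.ne_one _),
    Char.classInner_irr_of_ne (A.irr _) (B.irr _) (Ne.symm (B.ne_alpha _ _)),
    Char.classInner_irr_of_ne (B.irr _) (A.irr _) (B.ne_alpha _ _), mul_zero, add_zero, zero_add]
  by_cases h : k = l
  · subst h
    rw [if_pos rfl, Char.classInner_irr_self (A.irr k), Char.classInner_irr_self (B.irr k),
      mul_one, mul_one, conj_sign (A.sign k), conj_sign (B.sign k),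
      sign_mul_self (A.sign k), sign_mul_self (B.sign k)]
    norm_num
  · rw [if_neg h, Char.classInner_irr_of_ne (A.irr k) (A.irr l) fun e => h (A.inj e),
      Char.classInner_irr_of_ne (B.irr k) (B.irr l) fun e => h (B.inj e)]
    ring

namespace QuatHyp

variable {G : Type*} [Group G] [Fintype G] (Q : QuatHyp G)

theorem eight_oddInd [Fintype (centralizer ({Q.z} : Set G))] {A : AlphaData Q.cen} (B : BetaData A)
    (g : G) : 8 * oddInd g = 8 - 2 * ∑ k, Cfsg.indFun (centralizer ({Q.z} : Set G)) (B.f k) g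
      + Cfsg.indFun (centralizer ({Q.z} : Set G)) Q.cen.D g := by
  have hD0 : ∀ c, Q.cen.p2 c = 1 → Q.cen.D c = 0 := fun c hc => by
    simp [CentHyp.D, CentHyp.iY, CentHyp.iO, CentHyp.iZ, hc, Ne.symm Q.cen.z_ne_one]
  by_cases hg : 2 ∣ orderOf g
  · obtain ⟨x, c, hc, hx⟩ := Q.exists_conj_mem hg
    rw [oddInd, if_pos hg, mul_zero]
    have : ∀ k, Cfsg.indFun (centralizer ({Q.z} : Set G)) (B.f k) g = B.f k c := fun k =>
      Q.ind_apply_even (B.isClassFunction_f k) (fun c hc => B.f_odd k hc) hc hx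
    simp only [this, Q.ind_apply_even Q.cen.isClassFunction_D hD0 hc hx]
    exact (B.identity hc).symm
  · rw [oddInd, if_neg hg, Q.ind_apply_odd hD0 hg,
      Finset.sum_eq_zero fun k _ => Q.ind_apply_odd (fun c hc => B.f_odd k hc) hg]
    ring

theorem pair_relation {F : G → ℂ} (hF : IsClassFunction G F) (h1 : F 1 = 0)
    (hodd : ∀ g, ¬ 2 ∣ orderOf g → F g = 0) [Fintype (IrrCharacter G)] :
    ∑ θ : IrrCharacter G,
      classInner F (θ : G → ℂ) * ((θ : G → ℂ) Q.z * (θ : G → ℂ) Q.z / (θ : G → ℂ) 1) = 0 := by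
  classical
  set I : G → ℂ := classInd Q.z with hI
  have hIc := isClassFunction_classInd (G := G) Q.z
  have hIz : ∀ θ : IrrCharacter G, ∑ g, I g * (θ : G → ℂ) g = (∑ g, I g) * (θ : G → ℂ) Q.z := by
    intro θ
    rw [Finset.sum_mul]
    refine Finset.sum_congr rfl fun g _ => ?_
    simp only [hI, classInd]
    split_ifs with h
    · obtain ⟨x, rfl⟩ := isConj_iff.1 h
      rw [irr_class θ Q.z x]
    · rw [zero_mul, zero_mul]
  have hn : ∀ g, conv I I g * F g = 0 := by
    intro g
    by_cases hg : 2 ∣ orderOf g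
    · rw [conv_eq_sum, Finset.sum_mul]
      refine Finset.sum_eq_zero fun x _ => ?_
      simp only [hI, classInd]
      split_ifs with hx hy
      · exfalso
        have hxo : orderOf x = 2 := (Involution.orderOf_eq_of_isConj hx).symm.trans Q.hz
        have hyo : orderOf (x⁻¹ * g) = 2 := (Involution.orderOf_eq_of_isConj hy).symm.trans Q.hz
        have he : Even (orderOf (x * (x⁻¹ * g))) := by
          rw [mul_inv_cancel_left]; exact even_iff_two_dvd.2 hg
        obtain ⟨w, hw, hwx, hwy, -⟩ := Involution.exists_commuting_involution hxo hyo he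
        obtain ⟨a, ha⟩ := isConj_iff.1 (Q.conj2 w hw).symm
        have hmem : ∀ u, Commute w u → orderOf u = 2 → u = w := fun u hu ho => by
          have h := Q.uniq (x := a * u * a⁻¹) (by rw [Involution.orderOf_conj]; exact ho)
            (by
              rw [mem_centralizer_singleton_iff, ← ha]
              simp only [mul_assoc, inv_mul_cancel_left]
              rw [← mul_assoc u, ← hu.eq, mul_assoc])
          rw [← ha] at h
          exact mul_left_cancel (mul_right_cancel h)
        have e1 := hmem x hwx hxo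
        have e2 := hmem _ hwy hyo
        have : g = 1 := by
          rw [← mul_inv_cancel_left x g, e2, e1, Involution.mul_self hw]
        rw [this, orderOf_one] at hg
        norm_num at hg
      all_goals simp
    · rw [hodd g hg, mul_zero]
  have hnum : (∑ g, I g) ≠ 0 := by
    have e : ∑ g, I g = ((Finset.univ.filter fun g => IsConj Q.z g).card : ℂ) := by
      rw [← Finset.sum_boole]
      exact Finset.sum_congr rfl fun g _ => by simp only [hI, classInd]; congr
    rw [e]
    exact Nat.cast_ne_zero.2 (Finset.card_ne_zero.2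
      ⟨Q.z, Finset.mem_filter.2 ⟨Finset.mem_univ _, IsConj.refl _⟩⟩)
  have hexp := Char.classFunction_eq_sum hF
  have hθ : ∀ θ : IrrCharacter G, ∑ g, conv I I g * (θ : G → ℂ) g =
      (∑ g, I g) ^ 2 * ((θ : G → ℂ) Q.z * (θ : G → ℂ) Q.z / (θ : G → ℂ) 1) := fun θ => by
    have h := omega_conv hIc hIc θ
    rw [omega_eq_sum, omega_eq_sum, hIz, div_eq_iff (irr_one_ne_zero θ)] at h
    rw [h]
    field_simp [irr_one_ne_zero θ]
  refine mul_left_cancel₀ (pow_ne_zero 2 hnum) ?_
  rw [mul_zero, ← Finset.sum_eq_zero fun g (_ : g ∈ Finset.univ) => hn g, Finset.mul_sum]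
  conv_rhs => rw [hexp]
  simp only [Finset.sum_apply, Pi.smul_apply, smul_eq_mul, Finset.mul_sum]
  rw [Finset.sum_comm]
  refine Finset.sum_congr rfl fun θ _ => ?_
  calc (∑ g, I g) ^ 2 * (classInner F (θ : G → ℂ) * ((θ : G → ℂ) Q.z * (θ : G → ℂ) Q.z / (θ : G → ℂ) 1))
      = classInner F (θ : G → ℂ) * ∑ g, conv I I g * (θ : G → ℂ) g := by rw [hθ]; ring
    _ = _ := by rw [Finset.mul_sum]; exact Finset.sum_congr rfl fun g _ => by ring

theorem card_eq : Nat.card G = 8 * (Q.cen.m * (centralizer ({Q.z} : Set G)).index) := by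
  rw [← (centralizer ({Q.z} : Set G)).card_mul_index, Q.cen.card_eq, mul_assoc]

theorem unit_of_eq {M : Ideal AlgInt} (hM : IsPModular 2 M) {N d : ℕ} (hN : Odd N)
    {x : ℂ} {ε : ℂ} (hε : ε = 1 ∨ ε = -1) (hd : 0 < d) (hx : x = ε * N / d) :
    x ≠ 0 ∧ MemLocalRing M x⁻¹ := by
  have hN0 : (N : ℂ) ≠ 0 := Nat.cast_ne_zero.2 fun h => by simp [h] at hN
  refine ⟨?_, ?_⟩
  · rw [hx]; exact div_ne_zero (mul_ne_zero (sign_ne_zero hε) hN0) (Nat.cast_ne_zero.2 hd.ne')
  · have : x⁻¹ = (ε * d) * (N : ℂ)⁻¹ := by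
      rw [hx]; rcases hε with rfl | rfl <;> field_simp
    rw [this]
    exact memR_mul hM (memR_mul hM (memR_of_isIntegral hM (isIntegral_sign hε)) (memR_natCast hM d))
      (memR_natCast_inv hM fun h => (Nat.not_even_iff_odd.2 hN) (even_iff_two_dvd.2 h))

theorem exists_normal : ∃ N : Subgroup G, N.Normal ∧ Q.z ∈ N ∧ N ≠ ⊤ := by
  classical
  haveI : Fact (Nat.Prime 2) := ⟨Nat.prime_two⟩
  obtain ⟨M, hM⟩ := CentralChar.exists_pModular 2
  let : Fintype (centralizer ({Q.z} : Set G)) := Fintype.ofFinite _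
  obtain ⟨A⟩ := exists_alphaData Q.cen
  obtain ⟨B⟩ := A.exists_betaData
  have := Fintype.ofFinite (IrrCharacter G)
  set C := centralizer ({Q.z} : Set G)
  have hD0 : ∀ c, Q.cen.p2 c = 1 → Q.cen.D c = 0 := fun c hc => by
    simp [CentHyp.D, CentHyp.iY, CentHyp.iO, CentHyp.iZ, hc, Ne.symm Q.cen.z_ne_one]
  have hf0 : ∀ k c, Q.cen.p2 c = 1 → B.f k c = 0 := fun k c hc => B.f_odd k hc
  set DG := Cfsg.indFun C Q.cen.D with hDG
  set FG := fun k => Cfsg.indFun C (B.f k) with hFG
  have hDgen : IsGeneralizedCharacter G DG :=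
    Char.IsGeneralizedCharacter.indFun Q.cen.isGeneralizedCharacter_D
  have hFgen : ∀ k, IsGeneralizedCharacter G (FG k) := fun k =>
    Char.IsGeneralizedCharacter.indFun (B.isGeneralizedCharacter_f k)
  obtain ⟨c₀, hDe, hc₀, -⟩ := Char.IsGeneralizedCharacter.exists_coeffs hDgen
  choose c hFe hc _hcn using fun k => Char.IsGeneralizedCharacter.exists_coeffs (hFgen k)
  have hrec : ∀ (f : C → ℂ) (θ : IrrCharacter G), classInner (Cfsg.indFun C f) (θ : G → ℂ) =
      classInner f (fun x : C => (θ : G → ℂ) x) := fun f θ =>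
    Char.frobenius_reciprocity _ f (irr_class θ)
  set o : IrrCharacter G := ⟨1, Char.isIrrCharacter_one⟩
  have ho0 : c₀ o = 1 := by
    have := hc₀ o
    rw [hrec] at this
    exact_mod_cast this.symm.trans Q.cen.classInner_D_one
  have hok : ∀ k, c k o = 1 := fun k => by
    have := hc k o
    rw [hrec] at this
    exact_mod_cast this.symm.trans (B.inner_f_one k)
  have hsq : ∀ (u v : G → ℂ) (a b : IrrCharacter G → ℤ), IsClassFunction G u →
      (∀ θ : IrrCharacter G, classInner u (θ : G → ℂ) = a θ) →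
      (∀ θ : IrrCharacter G, classInner v (θ : G → ℂ) = b θ) → classInner u v = ((∑ θ, a θ * b θ : ℤ) : ℂ) :=
    fun u v a b hu ha hb => by
      rw [Char.classInner_eq_sum hu v]
      push_cast
      exact Finset.sum_congr rfl fun θ _ => by rw [ha, hb, map_intCast]
  have hiso := fun (f f' : C → ℂ) (h1 : IsClassFunction C f) (h2 : ∀ c, Q.cen.p2 c = 1 → f c = 0)
    (h3 : ∀ c, Q.cen.p2 c = 1 → f' c = 0) => Q.ind_isometry h1 h2 h3
  have hdeg : ∀ θ : IrrCharacter G, ∃ d : ℕ, 0 < d ∧ (θ : G → ℂ) 1 = d := fun θ =>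
    Char.IsIrrCharacter.exists_degree θ.2
  choose d hd hd1 using hdeg
  have hsum00 : ∑ θ, c₀ θ * c₀ θ = 4 := by
    have h := hsq DG DG c₀ c₀ (Char.indFun_isClassFunction C _) hc₀ hc₀
    rw [hDG, hiso _ _ Q.cen.isClassFunction_D hD0 hD0, Q.cen.classInner_D_self] at h
    exact_mod_cast h.symm
  have hsum0k : ∀ k, ∑ θ, c₀ θ * c k θ = 2 := fun k => by
    have h := hsq DG (FG k) c₀ (c k) (Char.indFun_isClassFunction C _) hc₀ (hc k)
    rw [hDG, hFG, hiso _ _ Q.cen.isClassFunction_D hD0 (hf0 k), B.inner_f_D] at h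
    exact_mod_cast h.symm
  have hsumkl : ∀ k l, ∑ θ, c k θ * c l θ = if k = l then 3 else 1 := fun k l => by
    have h := hsq (FG k) (FG l) (c k) (c l) (Char.indFun_isClassFunction C _) (hc k) (hc l)
    rw [hFG, hiso _ _ (B.isClassFunction_f k) (hf0 k) (hf0 l), B.inner_f_f] at h
    split_ifs with e
    · subst e; rw [if_pos rfl] at h; exact_mod_cast h.symm
    · rw [if_neg e] at h; exact_mod_cast h.symm
  have hval1 : ∀ (u : G → ℂ) (a : IrrCharacter G → ℤ), u = ∑ θ, (a θ : ℂ) • (θ : G → ℂ) → u 1 = 0 →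
      ∑ θ, a θ * (d θ : ℤ) = 0 := fun u a hu h0 => by
    rw [hu] at h0
    simp only [Finset.sum_apply, Pi.smul_apply, smul_eq_mul, hd1] at h0
    exact_mod_cast h0
  let ι := {θ : IrrCharacter G // θ ≠ o}
  have hι : ∀ F : IrrCharacter G → ℤ, ∑ i : ι, F i = ∑ θ, F θ - F o := fun F => by
    rw [← Finset.add_sum_erase _ _ (Finset.mem_univ o), add_sub_cancel_left]
    exact (Finset.sum_subtype _ (by simp) F).symm
  have hdo : d o = 1 := by
    have h := hd1 o
    have : ((o : IrrCharacter G) : G → ℂ) 1 = 1 := rfl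
    rw [this] at h
    exact_mod_cast h.symm
  have hone : ¬ 2 ∣ orderOf (1 : G) := by simp
  obtain ⟨k, u, w, huw, hu0, hw0, hku, hkw, hdw, hkz, hlz⟩ := shape (ι := ι) (fun i => c₀ i)
    (fun k i => c k i) (fun i => d i) (fun i => hd i)
    (by simp only [sq]; rw [hι (fun θ => c₀ θ * c₀ θ), hsum00, ho0]; norm_num)
    (fun k => by simp only [sq]; rw [hι (fun θ => c k θ * c k θ), hsumkl, if_pos rfl, hok]; norm_num)
    (fun k => by rw [hι (fun θ => c₀ θ * c k θ), hsum0k, ho0, hok]; norm_num)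
    (fun k l hne => by rw [hι (fun θ => c k θ * c l θ), hsumkl, if_neg hne, hok, hok]; norm_num)
    (by rw [hι (fun θ => c₀ θ * (d θ : ℤ)), hval1 DG c₀ hDe (Q.ind_apply_odd hD0 hone), ho0, hdo]
        norm_num)
    (fun k => by
      rw [hι (fun θ => c k θ * (d θ : ℤ)), hval1 (FG k) (c k) (hFe k) (Q.ind_apply_odd (hf0 k) hone),
        hok, hdo]
      norm_num)
  set N := Q.cen.m * C.index with hNdef
  have hN : Odd N := Q.cen.hm.mul Q.odd_index
  have hOdd : ∀ θ : IrrCharacter G, θ ≠ o →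
      8 * ∑ g, oddInd g * (θ : G → ℂ) g = ((8 * N : ℕ) : ℂ) * ((c₀ θ - 2 * ∑ k, c k θ : ℤ) : ℂ) := by
    intro θ hθ
    have hcl : classInner (1 : G → ℂ) (θ : G → ℂ) = 0 :=
      Char.classInner_irr_of_ne Char.isIrrCharacter_one θ.2 fun h => hθ (Subtype.ext h.symm)
    have h := Char.card_mul_classInner
      ((8 : ℂ) • (1 : G → ℂ) - (2 : ℂ) • ∑ k, FG k + DG) (θ : G → ℂ)
    rw [Char.classInner_add_left, Char.classInner_sub_left, Char.classInner_smul_left,
      Char.classInner_smul_left, Char.classInner_sum_left, hcl, hc₀, Q.card_eq] at h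
    simp only [hc] at h
    have h2 := congrArg conj h
    simp only [map_mul, map_sum, map_add, map_sub, map_zero, map_natCast, map_intCast, map_neg, map_ofNat, Complex.conj_ofNat,
      mul_zero, zero_sub, Complex.conj_conj] at h2
    have e : ∀ g, conj (((8 : ℂ) • (1 : G → ℂ) - (2 : ℂ) • ∑ k, FG k + DG) g) = 8 * oddInd g := by
      intro g
      have := Q.eight_oddInd B g
      rw [show (((8 : ℂ) • (1 : G → ℂ) - (2 : ℂ) • ∑ k, FG k + DG) g) = 8 * oddInd g by
        rw [this]; simp [hFG, hDG]; rfl]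
      simp only [oddInd]; split_ifs <;> simp [Complex.conj_ofNat]
    simp only [e] at h2
    rw [Finset.mul_sum]
    simp only [← mul_assoc]
    rw [← h2, hNdef]
    push_cast; ring
  have hint : ∀ θ : IrrCharacter G, IsIntegral ℤ (omega (θ : G → ℂ) oddInd) := fun θ =>
    isIntegral_omega θ.2 isClassFunction_oddInd fun g => by
      simp only [oddInd]; split_ifs <;> simp [isIntegral_one, isIntegral_zero]
  have hsu : ∑ l, c l (u : IrrCharacter G) = 1 := by
    rw [Finset.sum_eq_single k (fun l _ hl => (hlz l hl).1) (by simp)]; exact hku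
  have hsw : ∑ l, c l (w : IrrCharacter G) = -1 := by
    rw [Finset.sum_eq_single k (fun l _ hl => (hlz l hl).2) (by simp)]; exact hkw
  have hu' : omega (u.1 : G → ℂ) oddInd = -1 * (N : ℂ) / (d u.1 : ℕ) := by
    rw [omega_eq_sum, hd1]
    congr 1
    have h := hOdd u.1 u.2
    rw [hsu, hu0] at h
    push_cast at h
    linear_combination h / 8
  have hunit_u := unit_of_eq hM hN (Or.inr rfl) (hd u.1) hu'
  have hd_odd : Odd (d u.1) := by
    refine hN.of_dvd_nat (Char.nat_dvd_of_isIntegral_div (hd _).ne' ?_)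
    have h := (hint u.1).neg
    rw [hu'] at h
    convert h using 1; ring
  obtain ⟨j, hj, hjN, hjd⟩ : ∃ j, 0 < j ∧ j ∣ N ∧ d w.1 = 2 * j := by
    obtain ⟨i, hi⟩ := hd_odd
    have hdw' : d w.1 = 2 * (i + 1) := by
      have : d w.1 = d u.1 + 1 := hdw
      omega
    refine ⟨i + 1, by omega, ?_, hdw'⟩
    refine Char.nat_dvd_of_isIntegral_div (by omega) ?_
    have h := hint w.1
    rw [omega_eq_sum, hd1, hdw'] at h
    have h8 := hOdd w.1 w.2
    rw [hsw, hw0] at h8
    push_cast at h8 h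
    rw [show ∑ g, oddInd g * (w.1 : G → ℂ) g = 2 * (N : ℂ) by linear_combination h8 / 8,
      mul_div_mul_left _ _ (two_ne_zero)] at h
    exact_mod_cast h
  have hw' : omega (w.1 : G → ℂ) oddInd = 1 * (N : ℂ) / (j : ℕ) := by
    rw [omega_eq_sum, hd1, hjd]
    have h8 := hOdd w.1 w.2
    rw [hsw, hw0] at h8
    push_cast at h8
    rw [show ∑ g, oddInd g * (w.1 : G → ℂ) g = 2 * (N : ℂ) by linear_combination h8 / 8]
    push_cast
    rw [one_mul, mul_div_mul_left _ _ (two_ne_zero)]
  have hunit_w := unit_of_eq hM hN (Or.inl rfl) hj hw'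
  -- the values at z
  have hzv : ∀ θ : IrrCharacter G, omega (θ : G → ℂ) oddInd ≠ 0 →
      MemLocalRing M (omega (θ : G → ℂ) oddInd)⁻¹ →
      (θ : G → ℂ) Q.z = ∑ k, (c k θ : ℂ) * (1 + A.δ k * A.α k 1) - (c₀ θ : ℂ) := fun θ h1 h2 => by
    rw [Q.value_z B θ.2 hM h1 h2, ← hrec, ← hDG, hc₀]
    congr 1
    exact Finset.sum_congr rfl fun k _ => by rw [← hrec]; exact congrArg (· * _) (hc k θ)
  set t : ℂ := A.δ k * A.α k 1
  have hzu : (u.1 : G → ℂ) Q.z = t := by
    rw [hzv u.1 hunit_u.1 hunit_u.2,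
      Finset.sum_eq_single k (fun l _ hl => by
        have : c l u.1 = 0 := (hlz l hl).1
        simp [this]) (by simp), hku, hu0]
    push_cast; ring
  have hzw : (w.1 : G → ℂ) Q.z = -(1 + t) := by
    rw [hzv w.1 hunit_w.1 hunit_w.2,
      Finset.sum_eq_single k (fun l _ hl => by
        have : c l w.1 = 0 := (hlz l hl).2
        simp [this]) (by simp), hkw, hw0]
    push_cast; ring
  have hrel := Q.pair_relation (Char.indFun_isClassFunction C (B.f k))
    (Q.ind_apply_odd (hf0 k) hone) fun g hg => Q.ind_apply_odd (hf0 k) hg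
  rw [← Finset.sum_subset (Finset.subset_univ ({o, u.1, w.1} : Finset (IrrCharacter G)))
    (fun θ _ hθ => by
      simp only [Finset.mem_insert, Finset.mem_singleton, not_or] at hθ
      have : c k θ = 0 := hkz ⟨θ, hθ.1⟩ (fun e => hθ.2.1 (congrArg Subtype.val e))
        (fun e => hθ.2.2 (congrArg Subtype.val e))
      rw [show classInner (Cfsg.indFun C (B.f k)) (θ : G → ℂ) = (c k θ : ℂ) from hc k θ, this]
      simp)] at hrel
  rw [Finset.sum_insert (by
      simp only [Finset.mem_insert, Finset.mem_singleton, not_or]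
      exact ⟨Ne.symm u.2, Ne.symm w.2⟩),
    Finset.sum_pair fun e => huw (Subtype.ext e)] at hrel
  have hcc : ∀ θ : IrrCharacter G, classInner (Cfsg.indFun C (B.f k)) (θ : G → ℂ) = (c k θ : ℂ) := hc k
  rw [hcc, hcc, hcc, hok, hku, hkw, hzu, hzw, hd1 u.1, hd1 w.1] at hrel
  have hoz : (o : G → ℂ) Q.z = 1 := rfl
  have ho1 : (o : G → ℂ) 1 = 1 := rfl
  rw [hoz, ho1] at hrel
  have hdu0 : ((d u.1 : ℕ) : ℂ) ≠ 0 := Nat.cast_ne_zero.2 (hd _).ne'
  have hdw0 : ((d w.1 : ℕ) : ℂ) ≠ 0 := Nat.cast_ne_zero.2 (hd _).ne'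
  have hdw2 : ((d w.1 : ℕ) : ℂ) = (d u.1 : ℕ) + 1 := by exact_mod_cast hdw
  rw [hdw2] at hrel hdw0
  field_simp at hrel
  have ht : t = (d u.1 : ℕ) := by
    have : (t - ((d u.1 : ℕ) : ℂ)) ^ 2 = 0 := by linear_combination hrel
    exact sub_eq_zero.1 (pow_eq_zero_iff two_ne_zero |>.1 this)
  obtain ⟨n, ρ, hirr, hρ⟩ := u.1.2
  have hfin : ρ.character Q.z = (Module.finrank ℂ (Fin n → ℂ) : ℂ) := by
    rw [← Representation.char_one ρ, hρ, hzu, ht, hd1]
  refine ⟨(ρ : G →* Module.End ℂ (Fin n → ℂ)).ker, inferInstance,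
    (Char.character_eq_finrank_iff ρ Q.z).1 hfin, fun htop => ?_⟩
  have hne : (u.1 : G → ℂ) ≠ 1 := fun h => u.2 (Subtype.ext h)
  have hsum := sum_irr_eq_zero u.1.2 hne
  have hconst : ∀ g, (u.1 : G → ℂ) g = (d u.1 : ℕ) := fun g => by
    have hg : ρ g = 1 := MonoidHom.mem_ker.1 (htop ▸ Subgroup.mem_top g)
    rw [← hd1, ← hρ]
    simp [Representation.character, hg]
  simp only [hconst, Finset.sum_const, Finset.card_univ, nsmul_eq_mul] at hsum
  exact (mul_ne_zero (Nat.cast_ne_zero.2 Fintype.card_ne_zero) hdu0) hsum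

end QuatHyp

end Cfsg.Agent.BrauerSuzuki
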