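/-
The Brauer-Suzuki theorem for a quaternion Sylow 2-subgroup of order eight.

* `Q8.exists_quatHyp`
* `q8_involution_central`, `q8_card_center`
-/
import Cfsg.Agent.Lib.BrauerSuzuki.Main
import Cfsg.Agent.S0950
import Cfsg.Agent.Lib.Cores.Basic

set_option autoImplicit false

open Subgroup
open scoped Pointwise

namespace Cfsg.Agent.BrauerSuzuki

open Cfsg

namespace Q8

theorem facts : (∀ q : QuaternionGroup 2, q * q = 1 → q = 1 ∨ q = .a 2) ∧
    (∀ q : QuaternionGroup 2, q ^ 4 = 1) ∧
    (∀ q g : QuaternionGroup 2, q * q ≠ 1 → g * q = q * g → g * g = 1 ∨ g = q ∨ g = q⁻¹) ∧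
    (∀ q : QuaternionGroup 2, q * q ≠ 1 → ∃ g, g * q * g⁻¹ = q⁻¹) ∧
    (∀ q : QuaternionGroup 2, (.a 2) * q = q * (.a 2)) ∧
    (QuaternionGroup.a 1 : QuaternionGroup 2) * .a 1 = .a 2 := by
  refine ⟨by decide, by decide, by decide, by decide, by decide, by decide⟩

variable {G : Type*} [Group G] [Finite G] (S : Sylow 2 G)

theorem exists_conj_mem {K : Subgroup G} (hK : IsPGroup 2 K) :
    ∃ g : G, ∀ x ∈ K, g * x * g⁻¹ ∈ (S : Subgroup G) := by
  haveI : Fact (Nat.Prime 2) := ⟨Nat.prime_two⟩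
  obtain ⟨T, hT⟩ := hK.exists_le_sylow
  obtain ⟨g, hg⟩ := MulAction.exists_smul_eq G S T
  refine ⟨g⁻¹, fun x hx => ?_⟩
  have h1 : x ∈ ((g • S : Sylow 2 G) : Subgroup G) := hg.symm ▸ hT hx
  obtain ⟨s, hs, rfl⟩ := h1
  simp [mul_assoc]
  exact hs

/-- Conjugation into `S` inside an overgroup of `S`. -/
theorem exists_conj_mem_of_le {C : Subgroup G} (hSC : (S : Subgroup G) ≤ C) {x : G} (hx : x ∈ C)
    {k : ℕ} (hk : orderOf x = 2 ^ k) : ∃ c ∈ C, c * x * c⁻¹ ∈ (S : Subgroup G) := by
  haveI : Fact (Nat.Prime 2) := ⟨Nat.prime_two⟩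
  have hp : IsPGroup 2 (zpowers (⟨x, hx⟩ : C)) :=
    IsPGroup.of_card (n := k) (by rw [Nat.card_zpowers, Subgroup.orderOf_mk, hk])
  obtain ⟨T, hT⟩ := hp.exists_le_sylow
  obtain ⟨c, hc⟩ := MulAction.exists_smul_eq C (S.subtype hSC) T
  refine ⟨((c⁻¹ : C) : G), (c⁻¹).2, ?_⟩
  have h1 : (⟨x, hx⟩ : C) ∈ ((c • S.subtype hSC : Sylow 2 C) : Subgroup C) :=
    hc.symm ▸ hT (mem_zpowers _)
  obtain ⟨s, hs, hsx⟩ := h1
  have : x = (c : G) * (s : G) * (c : G)⁻¹ := by
    have := congrArg Subtype.val hsx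
    simpa using this.symm
  subst this
  have hs' : (s : G) ∈ (S : Subgroup G) := hs
  simpa [mul_assoc] using hs'

variable (e : (S : Subgroup G) ≃* QuaternionGroup 2)
include e

theorem card_eq_eight : Nat.card (S : Subgroup G) = 8 := by
  rw [Nat.card_congr e.toEquiv, Nat.card_eq_fintype_card, QuaternionGroup.card]

/-- The involution of `S`. -/
noncomputable def inv : G := (e.symm (.a 2) : (S : Subgroup G))

theorem inv_mem : inv S e ∈ (S : Subgroup G) := (e.symm (.a 2)).2

theorem orderOf_inv : orderOf (inv S e) = 2 := by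
  rw [inv, Subgroup.orderOf_coe, e.symm.orderOf_eq]
  exact orderOf_eq_prime_pow (p := 2) (n := 0) (by decide) (by decide)

theorem eq_inv_of_sq {x : G} (hx : x ∈ (S : Subgroup G)) (h : orderOf x = 2) : x = inv S e := by
  have h2 : (⟨x, hx⟩ : (S : Subgroup G)) * ⟨x, hx⟩ = 1 := Subtype.ext (Involution.mul_self h)
  rcases facts.1 (e ⟨x, hx⟩) (by rw [← map_mul, h2, map_one]) with h' | h'
  · exact absurd (congrArg Subtype.val (e.injective (h'.trans e.map_one.symm))) (Involution.ne_one h)
  · rw [inv, ← h', e.symm_apply_apply]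

theorem inv_comm {x : G} (hx : x ∈ (S : Subgroup G)) : inv S e * x = x * inv S e := by
  have := congrArg (fun q => ((e.symm q : (S : Subgroup G)) : G)) (facts.2.2.2.2.1 (e ⟨x, hx⟩))
  simpa [inv] using this

theorem le_centralizer : (S : Subgroup G) ≤ centralizer ({inv S e} : Set G) :=
  fun _ hx => mem_centralizer_singleton_iff.2 (inv_comm S e hx).symm

theorem pow_four {x : G} (hx : x ∈ (S : Subgroup G)) : x ^ 4 = 1 := by
  have := congrArg (fun q => ((e.symm q : (S : Subgroup G)) : G)) (facts.2.1 (e ⟨x, hx⟩))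
  simpa using this

theorem sq_eq_inv {x : G} (hx : x ∈ (S : Subgroup G)) (h : orderOf x = 4) : x * x = inv S e := by
  refine eq_inv_of_sq S e (mul_mem hx hx) ?_
  rw [← pow_two, orderOf_pow' x two_ne_zero, h]; norm_num

theorem conj_invol {x : G} (hx : orderOf x = 2) : IsConj (inv S e) x := by
  obtain ⟨g, hg⟩ := exists_conj_mem S (K := zpowers x)
    (IsPGroup.of_card (n := 1) (by rw [Nat.card_zpowers, hx, pow_one]))
  have := eq_inv_of_sq S e (hg x (mem_zpowers x)) ((Involution.orderOf_conj g x).trans hx)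
  exact (isConj_iff.2 ⟨g, this⟩).symm

theorem uniq {x : G} (hx : orderOf x = 2) (hxC : x ∈ centralizer ({inv S e} : Set G)) :
    x = inv S e := by
  obtain ⟨c, hcC, hc⟩ := exists_conj_mem_of_le S (le_centralizer S e) hxC (k := 1) (by rw [hx, pow_one])
  have h := eq_inv_of_sq S e hc ((Involution.orderOf_conj c x).trans hx)
  have h2 : c * inv S e * c⁻¹ = inv S e := by
    rw [mem_centralizer_singleton_iff.1 hcC, mul_inv_cancel_right]
  exact mul_left_cancel (mul_right_cancel (h.trans h2.symm))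

theorem conj_four (hnc : ∀ N : Subgroup G, N.Normal → ¬ Subgroup.IsComplement' N (S : Subgroup G))
    {x y : G} (hy : y ∈ (S : Subgroup G)) (hy4 : orderOf y = 4)
    (hx : x ∈ centralizer ({inv S e} : Set G)) (hx4 : orderOf x = 4) :
    ∃ c ∈ centralizer ({inv S e} : Set G), c * y * c⁻¹ = x := by
  obtain ⟨c, hcC, hc⟩ := exists_conj_mem_of_le S (le_centralizer S e) hx (k := 2) (by rw [hx4]; norm_num)
  set w := c * x * c⁻¹
  have hw4 : orderOf w = 4 := (Involution.orderOf_conj c x).trans hx4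
  obtain ⟨n, hn, he⟩ := S0950.result S e hnc (zpowers y) (zpowers w) (zpowers_le.2 hy) (zpowers_le.2 hc)
    (by rw [Nat.card_zpowers, hy4]) (by rw [Nat.card_zpowers, hw4])
  have hnC : n ∈ centralizer ({inv S e} : Set G) := by
    rw [mem_centralizer_singleton_iff]
    have h1 : n * inv S e * n⁻¹ = inv S e :=
      eq_inv_of_sq S e ((mem_set_normalizer_iff.1 hn _).1 (inv_mem S e))
        ((Involution.orderOf_conj n _).trans (orderOf_inv S e))
    exact mul_inv_eq_iff_eq_mul.1 h1
  have hm : n * y * n⁻¹ ∈ zpowers w := he ▸ ⟨y, mem_zpowers y, rfl⟩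
  have hkey : ∃ d ∈ centralizer ({inv S e} : Set G), d * y * d⁻¹ = w := by
    rcases S0950.eq_or_inv_of_mem_zpowers hw4 hm ((Involution.orderOf_conj n y).trans hy4) with h | h
    · exact ⟨n, hnC, h⟩
    · have hwne : e ⟨w, hc⟩ * e ⟨w, hc⟩ ≠ 1 := by
        rw [← map_mul]
        intro h'
        have h2 := congrArg Subtype.val (e.injective (h'.trans e.map_one.symm))
        have h3 : w * w = 1 := h2
        have := orderOf_dvd_of_pow_eq_one (n := 2) (by rw [pow_two, h3] : w ^ 2 = 1)
        rw [hw4] at this; norm_num at this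
      obtain ⟨g, hg⟩ := facts.2.2.2.1 _ hwne
      have hg' := congrArg (fun q => ((e.symm q : (S : Subgroup G)) : G)) hg
      simp only [map_mul, map_inv, e.symm_apply_apply, Subgroup.coe_mul, Subgroup.coe_inv] at hg'
      refine ⟨(e.symm g : (S : Subgroup G)) * n, mul_mem (le_centralizer S e (e.symm g).2) hnC, ?_⟩
      set s := ((e.symm g : (S : Subgroup G)) : G)
      calc s * n * y * (s * n)⁻¹ = s * (n * y * n⁻¹) * s⁻¹ := by group
        _ = (s * w * s⁻¹)⁻¹ := by rw [h]; group
        _ = w := by rw [hg', inv_inv]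
  obtain ⟨d, hd, hdw⟩ := hkey
  refine ⟨c⁻¹ * d, mul_mem (inv_mem' hcC) hd, ?_⟩
  calc c⁻¹ * d * y * (c⁻¹ * d)⁻¹ = c⁻¹ * (d * y * d⁻¹) * c := by group
    _ = x := by rw [hdw]; simp only [w]; group
where
  inv_mem' {g : G} (h : g ∈ centralizer ({inv S e} : Set G)) : g⁻¹ ∈ centralizer ({inv S e} : Set G) :=
    Subgroup.inv_mem _ h

theorem exists_quatHyp (hnc : ∀ N : Subgroup G, N.Normal → ¬ Subgroup.IsComplement' N (S : Subgroup G)) :
    Nonempty (QuatHyp G) := by
  haveI : Fact (Nat.Prime 2) := ⟨Nat.prime_two⟩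
  set z := inv S e
  set C := centralizer ({z} : Set G)
  have hSC : (S : Subgroup G) ≤ C := le_centralizer S e
  set y : G := ((e.symm (.a 1) : (S : Subgroup G)) : G)
  have hyS : y ∈ (S : Subgroup G) := (e.symm (.a 1)).2
  have hyy : y * y = z := by
    exact congrArg (fun q : (S : Subgroup G) => (q : G))
      ((map_mul e.symm (.a 1) (.a 1)).symm.trans (congrArg e.symm facts.2.2.2.2.2))
  have hy4 : orderOf y = 4 := by
    rw [Subgroup.orderOf_coe, e.symm.orderOf_eq]
    exact orderOf_eq_prime_pow (p := 2) (n := 1) (by decide) (by decide)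
  have hidx : Odd (Nat.card C / 8) ∧ Odd C.index ∧ Nat.card C = 8 * (Nat.card C / 8) := by
    have h8 := card_eq_eight S e
    have hd : 8 ∣ Nat.card C := h8 ▸ Subgroup.card_dvd_of_le hSC
    have hodd : ¬ 2 ∣ (S : Subgroup G).index := S.not_dvd_index
    have hrel := Subgroup.relIndex_mul_index hSC
    have hrel' : Nat.card C = 8 * (S : Subgroup G).relIndex C := by
      rw [Subgroup.relIndex, ← h8, ← Nat.card_congr (subgroupOfEquivOfLe hSC).toEquiv]
      exact ((S : Subgroup G).subgroupOf C).card_mul_index.symm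
    have ho : Odd ((S : Subgroup G).index) := Nat.not_even_iff_odd.1 (by rwa [even_iff_two_dvd])
    refine ⟨?_, ho.of_dvd_nat (Subgroup.index_dvd_of_le hSC), (Nat.mul_div_cancel' hd).symm⟩
    rw [hrel', Nat.mul_div_cancel_left _ (by norm_num)]
    exact ho.of_dvd_nat (hrel ▸ dvd_mul_right _ _)
  have huniq : ∀ g : C, orderOf g = 2 → g = ⟨z, hSC (inv_mem S e)⟩ := fun g hg =>
    Subtype.ext (uniq S e (by rw [Subgroup.orderOf_coe]; exact hg) g.2)
  have hno8 : ∀ g : C, ¬ 8 ∣ orderOf g := by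
    intro g hd
    obtain ⟨j, hj⟩ := hd
    have hpos := orderOf_pos g
    have ho : orderOf ((g ^ j : C) : G) = 2 ^ 3 := by
      rw [Subgroup.orderOf_coe, orderOf_pow' g (by omega : j ≠ 0), hj,
        Nat.gcd_eq_right (Dvd.intro_left 8 rfl)]
      exact Nat.mul_div_cancel _ (by omega)
    obtain ⟨c, -, hc⟩ := exists_conj_mem_of_le S hSC (g ^ j).2 ho
    have := orderOf_dvd_of_pow_eq_one (pow_four S e hc)
    rw [Involution.orderOf_conj, ho] at this
    norm_num at this
  have hconj : ∀ g : C, orderOf g = 4 → IsConj (⟨y, hSC hyS⟩ : C) g := by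
    intro g hg
    obtain ⟨c, hcC, hc⟩ := conj_four S e hnc hyS hy4 g.2 (by rw [Subgroup.orderOf_coe]; exact hg)
    exact isConj_iff.2 ⟨⟨c, hcC⟩, Subtype.ext hc⟩
  have hcy : ¬ 8 ∣ Nat.card (centralizer ({(⟨y, hSC hyS⟩ : C)} : Set C)) := by
    intro hd
    obtain ⟨T⟩ : Nonempty (Sylow 2 (centralizer ({(⟨y, hSC hyS⟩ : C)} : Set C))) := inferInstance
    set Cy := centralizer ({(⟨y, hSC hyS⟩ : C)} : Set C)
    have hyCy : (⟨y, hSC hyS⟩ : C) ∈ Cy := mem_centralizer_singleton_iff.2 rfl
    let emb : Cy →* G := C.subtype.comp Cy.subtype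
    have hinj : Function.Injective emb := Subtype.val_injective.comp Subtype.val_injective
    -- a 2-group of order at least 8 centralising y
    have hyn : (zpowers (⟨⟨y, hSC hyS⟩, hyCy⟩ : Cy)).Normal := ⟨fun a ha g => by
      obtain ⟨i, rfl⟩ := mem_zpowers_iff.1 ha
      have hc : Commute g (⟨⟨y, hSC hyS⟩, hyCy⟩ : Cy) := Subtype.ext (mem_centralizer_singleton_iff.1 g.2)
      rw [(hc.zpow_right i).eq, mul_inv_cancel_right]
      exact zpow_mem (mem_zpowers _) i⟩
    have hP : IsPGroup 2 ((T : Subgroup Cy) ⊔ zpowers (⟨⟨y, hSC hyS⟩, hyCy⟩ : Cy) : Subgroup Cy) :=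
      T.2.to_sup_of_normal_right (IsPGroup.of_card (n := 2) (by
        rw [Nat.card_zpowers, Subgroup.orderOf_mk, Subgroup.orderOf_mk, hy4]; norm_num))
    have hTle : zpowers (⟨⟨y, hSC hyS⟩, hyCy⟩ : Cy) ≤ (T : Subgroup Cy) :=
      le_sup_right.trans (le_of_eq (T.3 hP le_sup_left))
    have hT8 : 8 ∣ Nat.card (T : Subgroup Cy) := by
      have := T.pow_dvd_card_of_pow_dvd_card (n := 3) hd
      exact this
    obtain ⟨g, hg⟩ := exists_conj_mem S (T.2.map emb)
    set K := ((T : Subgroup Cy).map emb).map (MulAut.conj g).toMonoidHom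
    have hK : K = (S : Subgroup G) := by
      refine Subgroup.eq_of_le_of_card_ge ?_ ?_
      · rintro _ ⟨x, hx, rfl⟩; exact hg x hx
      · rw [card_eq_eight S e, Subgroup.card_map_of_injective (MulAut.conj g).injective,
          Subgroup.card_map_of_injective hinj]
        exact Nat.le_of_dvd Nat.card_pos hT8
    have hy' : g * y * g⁻¹ ∈ (S : Subgroup G) :=
      hK ▸ ⟨y, ⟨⟨⟨y, hSC hyS⟩, hyCy⟩, hTle (mem_zpowers _), rfl⟩, rfl⟩
    have hcent : ∀ x ∈ (S : Subgroup G), x * (g * y * g⁻¹) = g * y * g⁻¹ * x := by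
      intro x hx
      rw [← hK] at hx
      obtain ⟨_, ⟨w, -, rfl⟩, rfl⟩ := hx
      have hwy : (emb w) * y = y * emb w := congrArg Subtype.val (mem_centralizer_singleton_iff.1 w.2)
      show g * emb w * g⁻¹ * (g * y * g⁻¹) = g * y * g⁻¹ * (g * emb w * g⁻¹)
      rw [show g * emb w * g⁻¹ * (g * y * g⁻¹) = g * (emb w * y) * g⁻¹ by group, hwy]
      group
    set q := e ⟨_, hy'⟩
    have hqo : orderOf q = 4 := by
      rw [e.orderOf_eq, Subgroup.orderOf_mk, Involution.orderOf_conj, hy4]
    have hq : q * q ≠ 1 := fun h => by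
      have := orderOf_dvd_of_pow_eq_one (n := 2) (by rw [pow_two, h] : q ^ 2 = 1)
      rw [hqo] at this; norm_num at this
    obtain ⟨r, hr⟩ := facts.2.2.2.1 q hq
    have h1 := hcent _ (e.symm r).2
    have h2 : r * q = q * r := e.symm.injective (Subtype.ext (by
      simpa [q] using h1))
    rw [h2, mul_inv_cancel_right] at hr
    exact hq (mul_eq_one_iff_eq_inv.2 hr)
  exact ⟨⟨z, orderOf_inv S e, fun x hx => conj_invol S e hx,
    ⟨⟨z, hSC (inv_mem S e)⟩, ⟨y, hSC hyS⟩, Nat.card C / 8, hidx.1, hidx.2.2,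
      fun g => Subtype.ext (mem_centralizer_singleton_iff.1 g.2),
      by rw [Subgroup.orderOf_mk]; exact orderOf_inv S e, huniq, Subtype.ext hyy, hno8, hconj, hcy⟩,
    rfl, hidx.2.1⟩⟩

end Q8

universe u

/-- Brauer-Suzuki for `Q₈`: every involution is central if the odd core is trivial. -/
theorem q8_involution_central (G : Type u) [Group G] [Finite G] (S : Sylow 2 G)
    (e : (S : Subgroup G) ≃* QuaternionGroup 2)
    (hO : ∀ N : Subgroup G, N.Normal → Odd (Nat.card N) → N = ⊥) :
    ∀ x : G, orderOf x = 2 → x ∈ Subgroup.center G := by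
  suffices key : ∀ n : ℕ, ∀ (G : Type u) [Group G] [Finite G], Nat.card G = n → ∀ (S : Sylow 2 G),
      ((S : Subgroup G) ≃* QuaternionGroup 2) →
      (∀ N : Subgroup G, N.Normal → Odd (Nat.card N) → N = ⊥) →
      ∀ x : G, orderOf x = 2 → x ∈ Subgroup.center G from key _ G rfl S e hO
  intro n
  induction n using Nat.strong_induction_on with
  | _ n ih =>
  intro G _ _ hn S e hO x hx
  haveI : Fact (Nat.Prime 2) := ⟨Nat.prime_two⟩
  by_cases hcomp : ∃ N : Subgroup G, N.Normal ∧ Subgroup.IsComplement' N (S : Subgroup G)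
  · obtain ⟨N, hN, hc⟩ := hcomp
    have hNodd : Odd (Nat.card N) := by
      rw [← Nat.not_even_iff_odd, even_iff_two_dvd, ← hc.index_eq_card]
      exact S.not_dvd_index
    have hbot := hO N hN hNodd
    subst hbot
    have htop : (S : Subgroup G) = ⊤ := Subgroup.isComplement'_bot_left.1 hc
    rw [Subgroup.mem_center_iff]
    intro g
    rw [Q8.eq_inv_of_sq S e (htop ▸ Subgroup.mem_top x) hx]
    exact (Q8.inv_comm S e (htop ▸ Subgroup.mem_top g)).symm
  push Not at hcomp
  obtain ⟨Q⟩ := Q8.exists_quatHyp S e hcomp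
  let : Fintype G := Fintype.ofFinite G
  obtain ⟨N, hN, hzN, hNtop⟩ := Q.exists_normal
  have hzx : ∀ x : G, orderOf x = 2 → IsConj Q.z x := Q.conj2
  -- conjugates of z commute with z
  suffices hcomm : ∀ g : G, g * Q.z * g⁻¹ ∈ Subgroup.centralizer ({Q.z} : Set G) by
    have hzc : Q.z ∈ Subgroup.center G := by
      rw [Subgroup.mem_center_iff]
      intro g
      exact mul_inv_eq_iff_eq_mul.1 (Q.uniq ((Involution.orderOf_conj g _).trans Q.hz) (hcomm g))
    obtain ⟨g, hg⟩ := isConj_iff.1 (hzx x hx)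
    rw [Subgroup.mem_center_iff.1 hzc g, mul_inv_cancel_right] at hg
    exact hg ▸ hzc
  have hNO : ∀ K : Subgroup N, K.Normal → Odd (Nat.card K) → K = ⊥ := by
    intro K hK hKo
    have hle : K ≤ Cfsg.pPrimeCore 2 N := Cores.le_pPrimeCore hK (Nat.coprime_two_right.2 hKo)
    haveI : (Cfsg.pPrimeCore 2 N).Characteristic := by
      rw [Cores.pPrimeCore_eq_piCore]; infer_instance
    have hnorm : ((Cfsg.pPrimeCore 2 N).map N.subtype).Normal :=
      Cores.map_subtype_normal_of_characteristic N _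
    have hcard : Odd (Nat.card ((Cfsg.pPrimeCore 2 N).map N.subtype)) := by
      rw [Cores.card_map_subtype]
      exact Nat.coprime_two_right.1 (Cores.coprime_card_pPrimeCore 2)
    have := hO _ hnorm hcard
    rw [Subgroup.map_eq_bot_iff_of_injective _ N.subtype_injective] at this
    exact le_bot_iff.1 (this ▸ hle)
  obtain ⟨T⟩ : Nonempty (Sylow 2 N) := inferInstance
  obtain ⟨g0, hg0⟩ := Q8.exists_conj_mem S (T.2.map N.subtype)
  let j : (T : Subgroup N) →* (S : Subgroup G) :=
    { toFun := fun t => ⟨g0 * ((t : N) : G) * g0⁻¹, hg0 _ ⟨t, t.2, rfl⟩⟩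
      map_one' := Subtype.ext (by simp)
      map_mul' := fun a b => Subtype.ext (by push_cast; group) }
  have hj : Function.Injective j := fun a b h => by
    have := congrArg Subtype.val h
    exact Subtype.ext (Subtype.ext (mul_left_cancel (mul_right_cancel this)))
  have hdvd : Nat.card (T : Subgroup N) ∣ 8 := by
    have := Subgroup.card_dvd_of_injective j hj
    rwa [Q8.card_eq_eight S e] at this
  by_cases hT8 : Nat.card (T : Subgroup N) = 8
  · have hbij : Function.Bijective j := (Nat.bijective_iff_injective_and_card j).2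
      ⟨hj, hT8.trans (Q8.card_eq_eight S e).symm⟩
    have hlt : Nat.card N < n := by
      rw [← hn]
      refine lt_of_le_of_ne (Subgroup.card_le_card_group N) fun h => hNtop (Subgroup.eq_top_of_card_eq N h)
    intro g
    have hm : g * Q.z * g⁻¹ ∈ N := hN.conj_mem _ hzN g
    have hc := ih _ hlt N rfl T ((MulEquiv.ofBijective j hbij).trans e) hNO ⟨_, hm⟩
      (by rw [Subgroup.orderOf_mk, Involution.orderOf_conj, Q.hz])
    rw [Subgroup.mem_centralizer_singleton_iff]
    exact (congrArg Subtype.val (Subgroup.mem_center_iff.1 hc ⟨Q.z, hzN⟩)).symm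
  -- otherwise the Sylow subgroup of N is cyclic and N = T
  have hcyc : IsCyclic (T : Subgroup N) := by
    have hpos : 0 < Nat.card (T : Subgroup N) := Nat.card_pos
    have hle : Nat.card (T : Subgroup N) ≤ 8 := Nat.le_of_dvd (by norm_num) hdvd
    by_cases h4 : Nat.card (T : Subgroup N) = 4
    · by_contra hnc
      have hsq : ∀ t : (T : Subgroup N), t * t = 1 := fun t => by
        have hd : orderOf t ∣ 4 := h4 ▸ orderOf_dvd_natCard t
        have hne : orderOf t ≠ 4 := fun h => hnc (isCyclic_of_orderOf_eq_card t (h.trans h4.symm))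
        have : orderOf t ∣ 2 := by
          have h4' : orderOf t ≤ 4 := Nat.le_of_dvd (by norm_num) hd
          have h0 := orderOf_pos t
          interval_cases orderOf t <;> simp_all
        rw [← pow_two]; exact orderOf_dvd_iff_pow_eq_one.1 this
      have hsub : ∀ t : (T : Subgroup N), t = 1 ∨ j t = ⟨Q8.inv S e, Q8.inv_mem S e⟩ := fun t => by
        by_cases ht : t = 1
        · exact Or.inl ht
        · refine Or.inr (Subtype.ext (Q8.eq_inv_of_sq S e (j t).2 ?_))
          rw [Subgroup.orderOf_coe, orderOf_injective j hj]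
          exact Involution.orderOf_of_sq (hsq t) ht
      have : Nat.card (T : Subgroup N) ≤ Nat.card Bool := by
        classical
        refine Nat.card_le_card_of_injective (fun t => decide (t = 1)) fun a b hab => ?_
        rcases hsub a with ha | ha <;> rcases hsub b with hb | hb
        · rw [ha, hb]
        · exact ha.trans (of_decide_eq_true (hab.symm.trans (decide_eq_true ha))).symm
        · exact (of_decide_eq_true (hab.trans (decide_eq_true hb))).trans hb.symm
        · exact hj (ha.trans hb.symm)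
      rw [h4, Nat.card_eq_fintype_card, Fintype.card_bool] at this
      omega
    · have : Nat.card (T : Subgroup N) = 1 ∨ Nat.card (T : Subgroup N) = 2 := by
        obtain ⟨i, hi, he⟩ := (Nat.dvd_prime_pow Nat.prime_two).1 (by simpa using hdvd : Nat.card (T : Subgroup N) ∣ 2 ^ 3)
        interval_cases i <;> simp_all
      rcases this with h1 | h2
      · haveI : Subsingleton (T : Subgroup N) := (Nat.card_eq_one_iff_unique.1 h1).1
        exact isCyclic_of_subsingleton
      · exact isCyclic_of_prime_card h2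
  have hpos : 2 ∣ Nat.card N := by
    have := Subgroup.orderOf_dvd_natCard N hzN
    rwa [Q.hz] at this
  have hp : (Nat.card N).minFac = 2 := (Nat.minFac_eq_two_iff _).2 hpos
  have hC := IsCyclic.isComplement' hp hcyc
  have hker : (MonoidHom.transferSylow T (IsCyclic.normalizer_le_centralizer hp hcyc)).ker = ⊥ := by
    refine hNO _ inferInstance ?_
    rw [← hC.index_eq_card, ← Nat.not_even_iff_odd, even_iff_two_dvd]
    exact T.not_dvd_index
  rw [hker] at hC
  have htop : (T : Subgroup N) = ⊤ := Subgroup.isComplement'_bot_left.1 hC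
  intro g
  have hm : g * Q.z * g⁻¹ ∈ N := hN.conj_mem _ hzN g
  rw [Subgroup.mem_centralizer_singleton_iff]
  haveI := hcyc.isMulCommutative
  have h := mul_comm' (⟨⟨_, hm⟩, htop ▸ Subgroup.mem_top _⟩ : (T : Subgroup N))
    ⟨⟨Q.z, hzN⟩, htop ▸ Subgroup.mem_top _⟩
  exact congrArg (fun t : (T : Subgroup N) => ((t : N) : G)) h

/-- The Brauer-Suzuki theorem for `Q₈`. -/
theorem q8_card_center {G : Type u} [Group G] [Finite G] (S : Sylow 2 G)
    (e : (S : Subgroup G) ≃* QuaternionGroup 2)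
    (hO : ∀ N : Subgroup G, N.Normal → Odd (Nat.card N) → N = ⊥) :
    Nat.card (Subgroup.center G) = 2 := by
  haveI : Fact (Nat.Prime 2) := ⟨Nat.prime_two⟩
  have hzc := q8_involution_central G S e hO _ (Q8.orderOf_inv S e)
  have hodd : ∀ x ∈ Subgroup.center G, Odd (orderOf x) → x = 1 := by
    intro x hx ho
    have hn : (zpowers x).Normal := ⟨fun y hy g => by
      have hyc : y ∈ Subgroup.center G := (zpowers_le.2 hx) hy
      rwa [Subgroup.mem_center_iff.1 hyc g, mul_inv_cancel_right]⟩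
    exact zpowers_eq_bot.1 (hO _ hn (by rwa [Nat.card_zpowers]))
  have hpg : IsPGroup 2 (Subgroup.center G) := by
    intro x
    obtain ⟨a, m, hm, ho⟩ := Nat.exists_eq_pow_mul_and_not_dvd (orderOf_pos (x : G)).ne' 2 (by norm_num)
    refine ⟨a, Subtype.ext ?_⟩
    push_cast
    refine hodd _ (pow_mem x.2 _) ?_
    rw [orderOf_pow' _ (pow_ne_zero _ two_ne_zero), ho, Nat.gcd_eq_right (Dvd.intro m rfl),
      Nat.mul_div_cancel_left _ (pow_pos two_pos a)]
    exact Nat.not_even_iff_odd.1 (by rwa [even_iff_two_dvd])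
  obtain ⟨g, hg⟩ := Q8.exists_conj_mem S hpg
  have hle : Subgroup.center G ≤ zpowers (Q8.inv S e) := by
    intro x hx
    have hxS : x ∈ (S : Subgroup G) := by
      have := hg x hx
      rwa [Subgroup.mem_center_iff.1 hx g, mul_inv_cancel_right] at this
    by_cases h1 : x = 1
    · rw [h1]; exact one_mem _
    by_cases h2 : orderOf x = 2
    · rw [Q8.eq_inv_of_sq S e hxS h2]; exact mem_zpowers _
    exfalso
    have hq : e ⟨x, hxS⟩ * e ⟨x, hxS⟩ ≠ 1 := fun h => by
      rw [← map_mul] at h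
      exact h2 (Involution.orderOf_of_sq (congrArg Subtype.val (e.injective (h.trans e.map_one.symm))) h1)
    obtain ⟨r, hr⟩ := Q8.facts.2.2.2.1 _ hq
    have hc : r * e ⟨x, hxS⟩ = e ⟨x, hxS⟩ * r := e.symm.injective (Subtype.ext (by
      simpa using Subgroup.mem_center_iff.1 hx ((e.symm r : (S : Subgroup G)) : G)))
    rw [hc, mul_inv_cancel_right] at hr
    exact hq (mul_eq_one_iff_eq_inv.2 hr)
  refine le_antisymm ?_ ?_
  · have := Subgroup.card_le_of_le hle
    rwa [Nat.card_zpowers, Q8.orderOf_inv] at this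
  · have h := Subgroup.card_le_of_le (zpowers_le.2 hzc)
    rwa [Nat.card_zpowers, Q8.orderOf_inv] at h

end Cfsg.Agent.BrauerSuzuki
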